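import Groth.Agent.Omega57.Sect
import Groth.Agent.Div89.Stalk
import Groth.Agent.QCPull72.Sections
import Mathlib.RingTheory.Unramified.Locus
import Mathlib.RingTheory.Unramified.LocalRing
import Mathlib.AlgebraicGeometry.ResidueField

/-!
When the stalk of the sheaf of differentials vanishes.
-/

set_option autoImplicit false
set_option linter.style.haveILetI false
set_option backward.isDefEq.respectTransparency.types false

noncomputable section

universe u

open CategoryTheory AlgebraicGeometry IsLocalRing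

namespace Groth.Agent.Omega57

variable {X S : Scheme.{u}} (f : X ⟶ S)

theorem isQuasicoherent_omega : (Omega.sheaf f).IsQuasicoherent :=
  have := isQuasicoherent_idealMod (Limits.pullback.diagonal f).ker
  QCPull72.isQuasicoherent_pullback _ _

theorem omega_stalk_iff [QuasiSeparated f] (U : X.affineOpens) (V : S.affineOpens)
    (h : U.1 ≤ f ⁻¹ᵁ V.1) (x : X) (hx : x ∈ U.1) :
    letI := (f.appLE V.1 U.1 h).hom.toAlgebra
    letI := ((X.presheaf.germ U.1 x hx).hom.comp (f.appLE V.1 U.1 h).hom).toAlgebra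
    Subsingleton ((Omega.sheaf f).presheaf.stalk x) ↔
      Algebra.FormallyUnramified Γ(S, V.1) (X.presheaf.stalk x) := by
  letI := (f.appLE V.1 U.1 h).hom.toAlgebra
  letI := ((X.presheaf.germ U.1 x hx).hom.comp (f.appLE V.1 U.1 h).hom).toAlgebra
  have hqc : Coh.IsQCoh (Omega.sheaf f) := isQuasicoherent_omega f
  let F := Omega.sheaf f
  letI := Div89.stalkModule F U.1 x hx
  let p := Div89.primeAt U x hx
  have : p.IsPrime := Div89.primeAt_isPrime U x hx
  haveI := Div89.isLocalizedModule_germLin F hqc U x hx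
  letI := Div89.stalkAlg U.1 x hx
  haveI : IsScalarTower Γ(S, V.1) Γ(X, U.1) (X.presheaf.stalk x) := IsScalarTower.of_algebraMap_eq' rfl
  haveI : IsLocalization.AtPrime (X.presheaf.stalk x) p := U.2.isLocalization_stalk ⟨x, hx⟩
  haveI := isIso_toSect f U.2 V.2 h
  let e : Ω[Γ(X, U.1)⁄Γ(S, V.1)] ≃ₗ[Γ(X, U.1)] Γ(F, U.1) := (asIso (OmAff.toSect f V.1 U.1 h)).toLinearEquiv
  let loc := IsLocalizedModule.iso p.primeCompl ((Div89.germLin F U.1 x hx).comp e.toLinearMap)
  let d := IsLocalizedModule.iso p.primeCompl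
    (KaehlerDifferential.map Γ(S, V.1) Γ(S, V.1) Γ(X, U.1) (X.presheaf.stalk x))
  rw [Algebra.formallyUnramified_iff]
  exact (loc.symm.trans d).toEquiv.subsingleton_congr

theorem omega_stalk_zero_iff [LocallyOfFiniteType f] [QuasiSeparated f] (x : X) :
    Subsingleton ((Omega.sheaf f).presheaf.stalk x) ↔
      ((maximalIdeal (S.presheaf.stalk (f x))).map (f.stalkMap x).hom =
          maximalIdeal (X.presheaf.stalk x) ∧
        (f.residueFieldMap x).hom.Finite ∧
        @Algebra.IsSeparable (S.residueField (f x)) (X.residueField x) _ _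
          (f.residueFieldMap x).hom.toAlgebra) := by
  obtain ⟨V, hV, hxV, -⟩ := exists_isAffineOpen_mem_and_subset (X := S) (x := f x) (U := ⊤) trivial
  obtain ⟨U, hU, hxU, hUV⟩ := exists_isAffineOpen_mem_and_subset (show x ∈ f ⁻¹ᵁ V from hxV)
  letI := (f.appLE V U hUV).hom.toAlgebra
  letI := ((X.presheaf.germ U x hxU).hom.comp (f.appLE V U hUV).hom).toAlgebra
  letI := (f.stalkMap x).hom.toAlgebra
  letI := (S.presheaf.germ V (f x) hxV).hom.toAlgebra
  letI := Div89.stalkAlg U x hxU
  haveI : IsScalarTower Γ(S, V) Γ(X, U) (X.presheaf.stalk x) := IsScalarTower.of_algebraMap_eq' rfl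
  haveI : IsScalarTower Γ(S, V) (S.presheaf.stalk (f x)) (X.presheaf.stalk x) := by
    refine IsScalarTower.of_algebraMap_eq fun a => ?_
    show X.presheaf.germ U x hxU (f.appLE V U hUV a) = f.stalkMap x (S.presheaf.germ V (f x) hxV a)
    rw [Scheme.Hom.germ_stalkMap_apply, Scheme.Hom.appLE, ConcreteCategory.comp_apply,
      TopCat.Presheaf.germ_res_apply]
  haveI : IsLocalization.AtPrime (S.presheaf.stalk (f x)) (hV.primeIdealOf ⟨f x, hxV⟩).asIdeal :=
    hV.isLocalization_stalk ⟨f x, hxV⟩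
  haveI : IsLocalization.AtPrime (X.presheaf.stalk x) (hU.primeIdealOf ⟨x, hxU⟩).asIdeal :=
    hU.isLocalization_stalk ⟨x, hxU⟩
  haveI : Algebra.FormallyUnramified Γ(S, V) (S.presheaf.stalk (f x)) :=
    .of_isLocalization (hV.primeIdealOf ⟨f x, hxV⟩).asIdeal.primeCompl
  haveI : Algebra.FiniteType Γ(S, V) Γ(X, U) :=
    f.finiteType_appLE hV hU hUV
  haveI : Algebra.EssFiniteType Γ(X, U) (X.presheaf.stalk x) :=
    .of_isLocalization _ (hU.primeIdealOf ⟨x, hxU⟩).asIdeal.primeCompl
  haveI : Algebra.EssFiniteType Γ(S, V) (X.presheaf.stalk x) := .comp _ Γ(X, U) _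
  haveI : Algebra.EssFiniteType (S.presheaf.stalk (f x)) (X.presheaf.stalk x) :=
    .of_comp Γ(S, V) _ _
  haveI : IsLocalHom (algebraMap (S.presheaf.stalk (f x)) (X.presheaf.stalk x)) :=
    inferInstanceAs (IsLocalHom (f.stalkMap x).hom)
  have h0 : Algebra.FormallyUnramified Γ(S, V) (X.presheaf.stalk x) ↔
      Algebra.FormallyUnramified (S.presheaf.stalk (f x)) (X.presheaf.stalk x) :=
    ⟨fun _ => .of_restrictScalars Γ(S, V) _ _, fun _ => .comp _ (S.presheaf.stalk (f x)) _⟩
  rw [omega_stalk_iff f ⟨U, hU⟩ ⟨V, hV⟩ hUV x hxU, h0, Algebra.FormallyUnramified.iff_map_maximalIdeal_eq]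
  have hres : (f.residueFieldMap x).hom.toAlgebra =
      (inferInstance : Algebra (ResidueField (S.presheaf.stalk (f x))) (ResidueField (X.presheaf.stalk x))) :=
    Algebra.algebra_ext _ _ fun r => by
      obtain ⟨r, rfl⟩ := IsLocalRing.residue_surjective r
      rfl
  constructor
  · rintro ⟨h1, h2⟩
    haveI : Algebra.FormallyUnramified (S.presheaf.stalk (f x)) (X.presheaf.stalk x) :=
      Algebra.FormallyUnramified.iff_map_maximalIdeal_eq.2 ⟨h1, h2⟩
    refine ⟨h2, ?_, ?_⟩
    · show @Module.Finite (ResidueField (S.presheaf.stalk (f x))) (ResidueField (X.presheaf.stalk x)) _ _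
        (@Algebra.toModule _ _ _ _ (f.residueFieldMap x).hom.toAlgebra)
      rw [hres]
      haveI : Algebra.FormallyUnramified (ResidueField (S.presheaf.stalk (f x)))
          (ResidueField (X.presheaf.stalk x)) := inferInstance
      exact Algebra.FormallyUnramified.finite_of_free _ _
    · rw [hres]; exact h1
  · rintro ⟨h1, -, h3⟩
    rw [hres] at h3
    exact ⟨h3, h1⟩

end Groth.Agent.Omega57
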