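import Groth.Agent.Omega57.Pull

/-!
Pullback of a quasi-coherent module, computed on an affine open mapping into an affine open.
-/

set_option autoImplicit false
set_option backward.isDefEq.respectTransparency.types false

noncomputable section

universe u

open CategoryTheory Limits AlgebraicGeometry TopologicalSpace Opposite
open Groth.Agent.QC70

namespace Groth.Agent.Omega57

theorem hom_ext_le {P : Scheme.{u}} {W : P.Opens} (hW : IsAffineOpen W) {M N : P.Modules}
    [M.IsQuasicoherent] (φ φ' : M ⟶ N) (h : ∀ m : Γ(M, W), φ.app W m = φ'.app W m)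
    {V : P.Opens} (hV : V ≤ W) (s : Γ(M, V)) : φ.app V s = φ'.app V s := by
  refine section_ext N _ _ fun p hp => ?_
  obtain ⟨f, hfV, hpf⟩ := hW.exists_basicOpen_le ⟨p, hp⟩ (hV hp)
  refine ⟨P.basicOpen f, hfV, hpf, ?_⟩
  rw [← app_res, ← app_res]
  obtain ⟨n, t, ht⟩ := (isLocAt_of_isQuasicoherent M hW).exists_of f (res M hfV s)
  have hu : IsUnit (resO P (P.basicOpen_le f) f) := RingedSpace.isUnit_res_basicOpen _ f
  refine (hu.pow n).smul_left_cancel.mp ?_
  rw [← Scheme.Modules.Hom.app_smul, ← Scheme.Modules.Hom.app_smul, ← ht, app_res, app_res, h]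

theorem res_bijective {X : Scheme.{u}} (N : X.Modules) {U V : X.Opens} (h : V ≤ U) (h' : U ≤ V) :
    Function.Bijective (res N h) :=
  Function.bijective_iff_has_inverse.2 ⟨res N h', fun x => by rw [res_res, res_self],
    fun x => by rw [res_res, res_self]⟩

variable {X P : Scheme.{u}} {A : CommRingCat.{u}} (h : X ⟶ P) (M : P.Modules) (j : Spec A ⟶ X)
  [IsOpenImmersion j] {W : P.Opens} (hjW : (⊤ : (Spec A).Opens) ≤ j ⁻¹ᵁ (h ⁻¹ᵁ W))

/-- the ring map from the functions on `W`, valued in `A` -/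
abbrev ringHomOpen : Γ(P, W) →+* A := ((j ≫ h).appLE W ⊤ hjW ≫ (Scheme.ΓSpecIso A).hom).hom

/-- a section over `W`, pulled back to `Spec A` -/
def pullOpen : Γ(M, W) →+ Γ(((Scheme.Modules.pullback h).obj M).restrict j, (⊤ : (Spec A).Opens)) :=
  AddMonoidHom.mk' (fun m => res (((Scheme.Modules.pullback h).obj M).restrict j) hjW
    (((Scheme.Modules.restrictAdjunction j).unit.app ((Scheme.Modules.pullback h).obj M)).app (h ⁻¹ᵁ W)
      (OmegaSh.pullSect h M W m)))
    fun a b => by
      refine Eq.trans ?_ (res_add (M := ((Scheme.Modules.pullback h).obj M).restrict j) hjW _ _)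
      congr 1
      exact (congrArg _ (map_add (OmegaSh.pullSect h M W).hom a b)).trans (map_add _ _ _)

theorem res_smul_open {N : (Spec A).Modules} (r : Γ(P, W)) (x : Γ(N, j ⁻¹ᵁ (h ⁻¹ᵁ W))) :
    res N hjW (j.app (h ⁻¹ᵁ W) (h.app W r) • x) = ringHomOpen h j hjW r • res N hjW x := by
  rw [res_smul, Scheme.Modules.smul_Spec_def]
  congr 1
  show _ = (Spec A).presheaf.map _ ((Scheme.ΓSpecIso A).inv ((Scheme.ΓSpecIso A).hom ((j ≫ h).appLE W ⊤ hjW r)))
  rw [Iso.hom_inv_id_apply]
  refine Eq.trans ?_ (congr($((Spec A).presheaf.map_id _) _)).symm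
  rw [Scheme.Hom.appLE]
  rfl

theorem pullOpen_smul (r : Γ(P, W)) (m : Γ(M, W)) :
    pullOpen h M j hjW (r • m) = ringHomOpen h j hjW r • pullOpen h M j hjW m := by
  let u := ((Scheme.Modules.restrictAdjunction j).unit.app ((Scheme.Modules.pullback h).obj M)).app (h ⁻¹ᵁ W)
  show res _ hjW (u (OmegaSh.pullSect h M W (r • m))) = _
  rw [OmegaSh.pullSect_smul]
  refine Eq.trans (congrArg (res (((Scheme.Modules.pullback h).obj M).restrict j) hjW)
    (Scheme.Modules.Hom.app_smul _ (h.app W r) _)) ?_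
  exact res_smul_open h j hjW r _

theorem exists_restrict_pullback_iso (hW : IsAffineOpen W) [M.IsQuasicoherent] (Wm : ModuleCat.{u} A)
    (θ : Γ(M, W) →+ Wm) (hθsmul : ∀ r m, θ (r • m) = ringHomOpen h j hjW r • θ m)
    (hθ : Function.Surjective θ) (hψ : Function.Surjective (ringHomOpen h j hjW))
    (hker : ∀ (N : (Spec A).Modules) (g : Γ(M, W) →+ Γ(N, (⊤ : (Spec A).Opens))),
      (∀ r m, g (r • m) = ringHomOpen h j hjW r • g m) → ∀ m, θ m = 0 → g m = 0) :
    ∃ e : ((Scheme.Modules.pullback h).obj M).restrict j ≅ tilde Wm,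
      ∀ m, e.hom.app ⊤ (pullOpen h M j hjW m) = toTop Wm (θ m) := by
  let adj := Scheme.Modules.pullbackPushforwardAdjunction h
  let adjJ := Scheme.Modules.restrictAdjunction j
  let hM := (Scheme.Modules.pullback h).obj M
  let FM := hM.restrict j
  let T := (Scheme.Modules.pushforward h).obj ((Scheme.Modules.pushforward j).obj (tilde Wm))
  have hbW : Function.Bijective (res (tilde Wm) hjW) := res_bijective _ _ le_top
  -- sections of `T` only depend on the part over `W`
  have hρ : ∀ (N : (Spec A).Modules) (O : P.Opens), Function.Bijective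
      (res ((Scheme.Modules.pushforward h).obj ((Scheme.Modules.pushforward j).obj N))
        (inf_le_left : O ⊓ W ≤ O)) := fun N O =>
    res_bijective N ((j ≫ h).preimage_mono inf_le_left) fun x hx => ⟨hx, hjW (Opens.mem_top x)⟩
  let back : Γ(tilde Wm, (⊤ : (Spec A).Opens)) → Γ(tilde Wm, j ⁻¹ᵁ (h ⁻¹ᵁ W)) :=
    fun x => res (tilde Wm) le_top x
  have hback : ∀ x, res (tilde Wm) hjW (back x) = x := fun x => by rw [res_res, res_self]
  let l : Γ(M, W) →ₗ[Γ(P, W)] Γ(T, W) :=
    { toFun := fun m => back (toTop Wm (θ m))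
      map_add' := fun m m' => by
        refine hbW.1 ?_
        rw [hback, map_add θ, map_add (toTop Wm)]
        exact ((res_add (M := tilde Wm) hjW _ _).trans (congrArg₂ (· + ·) (hback _) (hback _))).symm
      map_smul' := fun r m => by
        refine hbW.1 ?_
        rw [hback]
        refine Eq.trans ?_ (res_smul_open h j hjW r _).symm
        rw [hback, hθsmul, map_smul] }
  let φ : HomOn M T W := HomOn.ofLinear hW l
  let ext : ∀ O : P.Opens, Γ(M, O) → Γ(T, O) := fun O s =>
    (Equiv.ofBijective _ (hρ (tilde Wm) O)).symm (φ.app (O ⊓ W) inf_le_right (res M inf_le_left s))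
  have hext : ∀ O s, res T (inf_le_left : O ⊓ W ≤ O) (ext O s) =
      φ.app (O ⊓ W) inf_le_right (res M inf_le_left s) := fun O s =>
    (Equiv.ofBijective _ (hρ (tilde Wm) O)).apply_symm_apply _
  let Φ : HomOn M T ⊤ :=
    { app := fun O _ =>
        { toFun := ext O
          map_add' := fun s t => by
            refine (hρ (tilde Wm) O).1 ?_
            show res T _ (ext O (s + t)) = res T _ (ext O s + ext O t)
            rw [res_add (M := T), hext, hext, hext, res_add, map_add]
          map_smul' := fun r s => by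
            refine (hρ (tilde Wm) O).1 ?_
            show res T _ (ext O (r • s)) = res T _ (r • ext O s)
            rw [res_smul (M := T), hext, hext, res_smul, LinearMap.map_smul] }
      app_res := fun {O O'} _ hle s => by
        refine (hρ (tilde Wm) O').1 ?_
        show res T _ (ext O' (res M hle s)) = res T _ (res T hle (ext O s))
        rw [hext, res_res, ← res_res (inf_le_left : O ⊓ W ≤ O) (inf_le_inf_right W hle) s, φ.app_res inf_le_right,
          ← hext, res_res, res_res] }
  let β₀ : hM ⟶ (Scheme.Modules.pushforward j).obj (tilde Wm) := (adj.homEquiv _ _).symm Φ.toHom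
  let β : FM ⟶ tilde Wm := (adjJ.homEquiv _ _).symm β₀
  have hβ : ∀ m, β.app ⊤ (pullOpen h M j hjW m) = toTop Wm (θ m) := fun m => by
    have h1 : adj.unit.app M ≫ (Scheme.Modules.pushforward h).map β₀ = Φ.toHom :=
      (adj.homEquiv_unit _ _ β₀).symm.trans (Equiv.apply_symm_apply _ _)
    have h2 : adjJ.unit.app hM ≫ (Scheme.Modules.pushforward j).map β = β₀ :=
      (adjJ.homEquiv_unit _ _ β).symm.trans (Equiv.apply_symm_apply _ _)
    have h3 := congr(Scheme.Modules.Hom.app $h1 W m)
    rw [← h2] at h3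
    show β.app ⊤ (res FM hjW _) = _
    rw [app_res β]
    refine (congrArg (res (tilde Wm) hjW) h3).trans ?_
    refine Eq.trans ?_ (hback (toTop Wm (θ m)))
    refine congrArg (res (tilde Wm) hjW) ?_
    rw [HomOn.toHom_app]
    refine (hρ (tilde Wm) W).1 ((hext W m).trans ?_)
    rw [φ.app_res le_rfl, HomOn.ofLinear_app_self]
    rfl
  have uniq : ∀ {N : (Spec A).Modules} (a a' : FM ⟶ N),
      (∀ m, a.app ⊤ (pullOpen h M j hjW m) = a'.app ⊤ (pullOpen h M j hjW m)) → a = a' := by
    intro N a a' haa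
    apply (adjJ.homEquiv _ _).injective
    apply (adj.homEquiv _ _).injective
    refine Scheme.Modules.hom_ext _ _ fun O => ?_
    ext s
    refine (hρ N O).1 ?_
    rw [← app_res, ← app_res]
    refine hom_ext_le hW _ _ (fun m => ?_) inf_le_right _
    rw [Adjunction.homEquiv_unit, Adjunction.homEquiv_unit, Adjunction.homEquiv_unit,
      Adjunction.homEquiv_unit]
    refine (res_bijective N hjW le_top).1 ?_
    refine ((app_res a hjW _).symm.trans (haa m)).trans (app_res a' hjW _)
  have hwd : ∀ m m', θ m = θ m' → pullOpen h M j hjW m = pullOpen h M j hjW m' := fun m m' e =>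
    sub_eq_zero.1 ((map_sub (pullOpen h M j hjW) m m').symm.trans
      (hker _ (pullOpen h M j hjW) (pullOpen_smul h M j hjW) _ (by rw [map_sub, e, sub_self])))
  let γ : Wm →ₗ[A] Γ(FM, (⊤ : (Spec A).Opens)) :=
    { toFun := fun w => pullOpen h M j hjW (hθ w).choose
      map_add' := fun v w => by
        rw [← map_add]
        exact hwd _ _ (by rw [map_add, (hθ (v + w)).choose_spec, (hθ v).choose_spec, (hθ w).choose_spec])
      map_smul' := fun a w => by
        obtain ⟨r, rfl⟩ := hψ a
        rw [RingHom.id_apply, ← pullOpen_smul]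
        exact hwd _ _ (by rw [hθsmul, (hθ _).choose_spec, (hθ w).choose_spec]) }
  have hγ : ∀ m, γ (θ m) = pullOpen h M j hjW m := fun m => hwd _ _ (hθ (θ m)).choose_spec
  let g : Wm ⟶ moduleSpecΓFunctor.obj FM := ModuleCat.ofHom (Y := Γ(FM, (⊤ : (Spec A).Opens))) γ
  let α : tilde Wm ⟶ FM := tilde.map g ≫ FM.fromTildeΓ
  have hα : ∀ w, α.app ⊤ (toTop Wm w) = γ w := fun w => by
    have h1 : (tilde.map g).app ⊤ (toTop Wm w) = toTop (moduleSpecΓFunctor.obj FM) (γ w) :=
      congr($(tilde.toOpen_map_app g ⊤).hom w)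
    have h2 : FM.fromTildeΓ.app ⊤ (toTop (moduleSpecΓFunctor.obj FM) (γ w)) = res FM le_rfl (γ w) :=
      congr($(FM.toOpen_fromTildeΓ_app ⊤).hom (γ w))
    exact ((congrArg (fun z => FM.fromTildeΓ.app ⊤ z) h1).trans h2).trans (res_self (M := FM) (γ w))
  have e1 : α ≫ β = 𝟙 (tilde Wm) := hom_ext_top (isAffineOpen_top (Spec A)) _ _ fun x => by
    obtain ⟨w, rfl⟩ := (ConcreteCategory.bijective_of_isIso (tilde.toOpen Wm ⊤)).2 x
    obtain ⟨m, rfl⟩ := hθ w
    show β.app ⊤ (α.app ⊤ (toTop Wm (θ m))) = toTop Wm (θ m)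
    rw [hα, hγ]
    exact hβ m
  have e2 : β ≫ α = 𝟙 FM := uniq _ _ fun m => by
    show α.app ⊤ (β.app ⊤ (pullOpen h M j hjW m)) = pullOpen h M j hjW m
    rw [hβ, hα, hγ]
  exact ⟨⟨β, α, e2, e1⟩, hβ⟩

end Groth.Agent.Omega57
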