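import Groth.Agent.QC70.Ideal
import Groth.Prelude.Def_OmAff

/-!
Pullback of a quasi-coherent module from an affine scheme to `Spec A`, computed on global sections:
`pullSect` identifies it with the quotient `W` of the sections by the kernel.
-/

set_option autoImplicit false
set_option backward.isDefEq.respectTransparency.types false

noncomputable section

universe u

open CategoryTheory Limits AlgebraicGeometry TopologicalSpace Opposite
open Groth.Agent.QC70

namespace Groth.Agent.Omega57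

theorem hom_ext_top {P : Scheme.{u}} (hP : IsAffineOpen (⊤ : P.Opens)) {M N : P.Modules}
    [M.IsQuasicoherent] (φ φ' : M ⟶ N) (h : ∀ m : Γ(M, ⊤), φ.app ⊤ m = φ'.app ⊤ m) : φ = φ' := by
  refine Scheme.Modules.hom_ext _ _ fun W => ?_
  ext s
  refine section_ext N _ _ fun p hp => ?_
  obtain ⟨f, hfW, hpf⟩ := hP.exists_basicOpen_le ⟨p, hp⟩ (by trivial)
  refine ⟨P.basicOpen f, hfW, hpf, ?_⟩
  rw [← app_res, ← app_res]
  obtain ⟨n, t, ht⟩ := (isLocAt_of_isQuasicoherent M hP).exists_of f (res M hfW s)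
  have hu : IsUnit (resO P (P.basicOpen_le f) f) := RingedSpace.isUnit_res_basicOpen _ f
  refine (hu.pow n).smul_left_cancel.mp ?_
  rw [← Scheme.Modules.Hom.app_smul, ← Scheme.Modules.Hom.app_smul, ← ht, app_res, app_res, h]

variable {P : Scheme.{u}} {A : CommRingCat.{u}} (h : Spec A ⟶ P) (M : P.Modules)

/-- the ring map on global sections, valued in `A` -/
abbrev sectRingHom : Γ(P, ⊤) →+* A := (h.appTop ≫ (Scheme.ΓSpecIso A).hom).hom

/-- sections of `N` over the preimage of the whole space, as sections over the whole space -/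
abbrev topSect {N : (Spec A).Modules} (x : Γ(N, h ⁻¹ᵁ ⊤)) : Γ(N, (⊤ : (Spec A).Opens)) := x

theorem sectRingHom_smul {N : (Spec A).Modules} (r : Γ(P, ⊤)) (x : Γ(N, h ⁻¹ᵁ ⊤)) :
    topSect h (h.app ⊤ r • x) = sectRingHom h r • topSect h x := by
  have key : (Spec A).presheaf.map (⊤ : (Spec A).Opens).leTop.op
      ((Scheme.ΓSpecIso A).inv (sectRingHom h r)) = h.app ⊤ r := by
    show (Spec A).presheaf.map _ ((Scheme.ΓSpecIso A).inv ((Scheme.ΓSpecIso A).hom (h.appTop r))) = _
    rw [Iso.hom_inv_id_apply]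
    exact congr($((Spec A).presheaf.map_id _) _)
  rw [Scheme.Modules.smul_Spec_def, key]
  rfl

theorem exists_pullback_iso (hP : IsAffineOpen (⊤ : P.Opens)) [M.IsQuasicoherent] (W : ModuleCat.{u} A)
    (θ : Γ(M, ⊤) →+ W) (hθsmul : ∀ r m, θ (r • m) = sectRingHom h r • θ m)
    (hθ : Function.Surjective θ) (hψ : Function.Surjective (sectRingHom h))
    (hker : ∀ (N : (Spec A).Modules) (g : Γ(M, ⊤) →+ Γ(N, (⊤ : (Spec A).Opens))),
      (∀ r m, g (r • m) = sectRingHom h r • g m) → ∀ m, θ m = 0 → g m = 0) :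
    ∃ e : (Scheme.Modules.pullback h).obj M ≅ tilde W,
      ∀ m, topSect h (e.hom.app (h ⁻¹ᵁ ⊤) (OmegaSh.pullSect h M ⊤ m)) = toTop W (θ m) := by
  let adj := Scheme.Modules.pullbackPushforwardAdjunction h
  let hM := (Scheme.Modules.pullback h).obj M
  -- morphisms out of the pullback
  let l : Γ(M, ⊤) →ₗ[Γ(P, ⊤)] Γ((Scheme.Modules.pushforward h).obj (tilde W), ⊤) :=
    { toFun := fun m => (show Γ(tilde W, h ⁻¹ᵁ ⊤) from toTop W (θ m))
      map_add' := fun m m' => by rw [map_add θ, map_add (toTop W)]; rfl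
      map_smul' := fun r m => by
        show toTop W (θ (r • m)) = topSect h (h.app ⊤ r • (show Γ(tilde W, h ⁻¹ᵁ ⊤) from toTop W (θ m)))
        rw [sectRingHom_smul, hθsmul, map_smul] }
  let β : hM ⟶ tilde W := (adj.homEquiv _ _).symm (HomOn.ofLinear hP l).toHom
  have hβ : ∀ m, topSect h (β.app (h ⁻¹ᵁ ⊤) (OmegaSh.pullSect h M ⊤ m)) = toTop W (θ m) := fun m => by
    have h1 : adj.unit.app M ≫ (Scheme.Modules.pushforward h).map β = (HomOn.ofLinear hP l).toHom := by
      exact (adj.homEquiv_unit _ _ β).symm.trans (Equiv.apply_symm_apply _ _)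
    have h2 := congr(Scheme.Modules.Hom.app $h1 ⊤ m)
    rw [HomOn.toHom_app, HomOn.ofLinear_app_self] at h2
    exact h2
  -- the morphism into the pullback
  let pz : Γ(M, ⊤) →+ Γ(hM, (⊤ : (Spec A).Opens)) :=
    { toFun := fun m => topSect h (OmegaSh.pullSect h M ⊤ m)
      map_zero' := map_zero (OmegaSh.pullSect h M ⊤).hom
      map_add' := fun a b => map_add (OmegaSh.pullSect h M ⊤).hom a b }
  have hpz : ∀ r m, pz (r • m) = sectRingHom h r • pz m := fun r m => by
    show topSect h (OmegaSh.pullSect h M ⊤ (r • m)) = _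
    rw [OmegaSh.pullSect_smul, sectRingHom_smul]
    rfl
  have hwd : ∀ m m', θ m = θ m' → pz m = pz m' := fun m m' e =>
    sub_eq_zero.1 ((map_sub pz m m').symm.trans (hker _ pz hpz _ (by rw [map_sub, e, sub_self])))
  let γ : W →ₗ[A] Γ(hM, (⊤ : (Spec A).Opens)) :=
    { toFun := fun w => pz (hθ w).choose
      map_add' := fun v w => by
        rw [← map_add]
        exact hwd _ _ (by rw [map_add, (hθ (v + w)).choose_spec, (hθ v).choose_spec, (hθ w).choose_spec])
      map_smul' := fun a w => by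
        obtain ⟨r, rfl⟩ := hψ a
        rw [RingHom.id_apply, ← hpz]
        exact hwd _ _ (by rw [hθsmul, (hθ _).choose_spec, (hθ w).choose_spec]) }
  have hγ : ∀ m, γ (θ m) = pz m := fun m => hwd _ _ (hθ (θ m)).choose_spec
  let g : W ⟶ moduleSpecΓFunctor.obj hM := ModuleCat.ofHom (Y := Γ(hM, (⊤ : (Spec A).Opens))) γ
  let α : tilde W ⟶ hM := tilde.map g ≫ hM.fromTildeΓ
  have hα : ∀ w, α.app ⊤ (toTop W w) = γ w := fun w => by
    have h1 : (tilde.map g).app ⊤ (toTop W w) = toTop (moduleSpecΓFunctor.obj hM) (γ w) :=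
      congr($(tilde.toOpen_map_app g ⊤).hom w)
    have h2 : hM.fromTildeΓ.app ⊤ (toTop (moduleSpecΓFunctor.obj hM) (γ w)) = res hM le_rfl (γ w) :=
      congr($(hM.toOpen_fromTildeΓ_app ⊤).hom (γ w))
    exact ((congrArg (fun z => hM.fromTildeΓ.app ⊤ z) h1).trans h2).trans (res_self (M := hM) (γ w))
  have hTopW : IsAffineOpen (⊤ : (Spec A).Opens) := isAffineOpen_top (Spec A)
  have e1 : α ≫ β = 𝟙 (tilde W) := hom_ext_top hTopW _ _ fun x => by
    obtain ⟨w, rfl⟩ := (ConcreteCategory.bijective_of_isIso (tilde.toOpen W ⊤)).2 x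
    obtain ⟨m, rfl⟩ := hθ w
    show β.app ⊤ (α.app ⊤ (toTop W (θ m))) = toTop W (θ m)
    rw [hα, hγ]
    exact hβ m
  have e2 : β ≫ α = 𝟙 hM := by
    apply (adj.homEquiv _ _).injective
    refine hom_ext_top hP _ _ fun m => ?_
    rw [Adjunction.homEquiv_unit, Adjunction.homEquiv_unit]
    show α.app (h ⁻¹ᵁ ⊤) (β.app (h ⁻¹ᵁ ⊤) (OmegaSh.pullSect h M ⊤ m)) = OmegaSh.pullSect h M ⊤ m
    exact (congrArg (fun z => α.app ⊤ z) (hβ m)).trans ((hα _).trans (hγ m))
  exact ⟨⟨β, α, e2, e1⟩, hβ⟩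

end Groth.Agent.Omega57
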