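import Groth.Agent.QCPull72.Sections
import Groth.Prelude.Def_Coh
import Mathlib.Algebra.Category.ModuleCat.Sheaf.PullbackFree
import Mathlib.AlgebraicGeometry.Modules.Tilde
import Mathlib.LinearAlgebra.Basis.VectorSpace

/-!
Pullback of free modules; quasi-coherent modules on the spectrum of a field.
-/

set_option autoImplicit false
set_option backward.isDefEq.respectTransparency.types false

noncomputable section

universe u

open CategoryTheory Limits AlgebraicGeometry TopologicalSpace

namespace Groth.Agent.Omega57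

instance final_opensMap {X Y : Scheme.{u}} (f : X ⟶ Y) : (Opens.map f.base).Final := by
  refine ⟨fun U => ?_⟩
  have : Nonempty (StructuredArrow U (Opens.map f.base)) :=
    ⟨StructuredArrow.mk (Y := (⊤ : Y.Opens)) (homOfLE le_top)⟩
  exact zigzag_isConnected fun a b =>
    (Zigzag.of_hom (j₂ := StructuredArrow.mk (Y := (⊤ : Y.Opens)) (homOfLE le_top))
      (StructuredArrow.homMk (homOfLE le_top) (Subsingleton.elim _ _))).trans
    (Zigzag.of_inv (StructuredArrow.homMk (homOfLE le_top) (Subsingleton.elim _ _)))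

/-- the pullback of a free module is free -/
def pullbackFreeIso {X Y : Scheme.{u}} (f : X ⟶ Y) (I : Type u) :
    (Scheme.Modules.pullback f).obj (SheafOfModules.free I) ≅ SheafOfModules.free I :=
  SheafOfModules.pullbackObjFreeIso _ I

theorem exists_free_of_field (K : Type u) [Field K] (M : (Spec (CommRingCat.of K)).Modules)
    [M.IsQuasicoherent] : ∃ I : Type u, Nonempty (M ≅ SheafOfModules.free I) := by
  let V : ModuleCat.{u} K := (moduleSpecΓFunctor (R := CommRingCat.of K)).obj M
  let b := Module.Free.chooseBasis K V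
  haveI := Scheme.Modules.isIso_fromTildeΓ_of_isQuasicoherent (R := CommRingCat.of K) M
  let e : ModuleCat.of K (Module.Free.ChooseBasisIndex K V →₀ K) ≅ V := b.repr.symm.toModuleIso
  exact ⟨_, ⟨(asIso (Scheme.Modules.fromTildeΓ (R := CommRingCat.of K) M)).symm ≪≫ (tilde.functor (CommRingCat.of K)).mapIso e.symm ≪≫
    tildeFinsupp (R := CommRingCat.of K) _⟩⟩

theorem exists_free_pullback_of_field {S T : Scheme.{u}} (K : Type u) [Field K]
    (ζ : S ≅ Spec (CommRingCat.of K)) (C : S.Modules) [C.IsQuasicoherent] (f : T ⟶ S) :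
    ∃ I : Type u, Nonempty ((Scheme.Modules.pullback f).obj C ≅ ∐ fun _ : I => Coh.structureModule T) := by
  have := QCPull72.isQuasicoherent_pullback ζ.inv C
  obtain ⟨I, ⟨e⟩⟩ := exists_free_of_field K ((Scheme.Modules.pullback ζ.inv).obj C)
  refine ⟨I, ⟨?_⟩⟩
  let e₁ : C ≅ (Scheme.Modules.pullback (ζ.hom ≫ ζ.inv)).obj C :=
    ((Scheme.Modules.pullbackId S).app C).symm ≪≫ eqToIso (by rw [ζ.hom_inv_id])
  exact (Scheme.Modules.pullback f).mapIso (e₁ ≪≫ ((Scheme.Modules.pullbackComp ζ.hom ζ.inv).app C).symm ≪≫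
    (Scheme.Modules.pullback ζ.hom).mapIso e) ≪≫ (Scheme.Modules.pullback f).mapIso (pullbackFreeIso ζ.hom I) ≪≫
    pullbackFreeIso f I

end Groth.Agent.Omega57
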