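import Groth.Agent.Omega57.SectionConormal
import Groth.Agent.Omega57.PullFree
import Mathlib.CategoryTheory.Monoidal.Cartesian.Grp
import Mathlib.CategoryTheory.Monoidal.Cartesian.Over
import Mathlib.AlgebraicGeometry.Morphisms.QuasiSeparated

/-!
The sheaf of differentials of a group scheme.
-/

set_option autoImplicit false
set_option backward.isDefEq.respectTransparency.types false

noncomputable section

universe u

open CategoryTheory MonoidalCategory CartesianMonoidalCategory MonObj GrpObj AlgebraicGeometry Limits

namespace Groth.Agent.Omega57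

variable {S : Scheme.{u}} (G : Over S) [GrpObj G]

/-- the source of the two projections -/
abbrev sq : Over S := Over.mk (pullback.fst G.hom G.hom ≫ G.hom)

/-- `(a, b) ↦ a⁻¹ b` -/
def diffMap : sq G ⟶ G :=
  (Over.homMk (U := sq G) (pullback.fst G.hom G.hom) rfl)⁻¹ *
    Over.homMk (U := sq G) (pullback.snd G.hom G.hom) pullback.condition.symm

theorem diagonal_diffMap :
    pullback.diagonal G.hom ≫ (diffMap G).left = G.hom ≫ η[G].left := by
  let d : Over.mk G.hom ⟶ sq G := Over.homMk (pullback.diagonal G.hom) (by simp)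
  have h1 : d ≫ diffMap G = 1 := by
    rw [diffMap, MonObj.comp_mul, GrpObj.comp_inv,
      show d ≫ Over.homMk (U := sq G) (pullback.fst G.hom G.hom) rfl =
        (Over.homMk (U := Over.mk G.hom) (𝟙 G.left) (Category.id_comp _) : Over.mk G.hom ⟶ G) from
          Over.OverMorphism.ext (pullback.diagonal_fst _),
      show d ≫ Over.homMk (U := sq G) (pullback.snd G.hom G.hom) pullback.condition.symm =
        (Over.homMk (U := Over.mk G.hom) (𝟙 G.left) (Category.id_comp _) : Over.mk G.hom ⟶ G) from
          Over.OverMorphism.ext (pullback.diagonal_snd _), inv_mul_cancel]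
  have h2 := congrArg CommaMorphism.left h1
  exact h2.trans rfl

theorem isPullback_diffMap :
    IsPullback (diffMap G).left (pullback.fst G.hom G.hom) G.hom G.hom := by
  have key : ∀ s : PullbackCone G.hom G.hom, ∃ l : s.pt ⟶ pullback G.hom G.hom,
      l ≫ (diffMap G).left = s.fst ∧ l ≫ pullback.fst G.hom G.hom = s.snd ∧
      ∀ m, m ≫ (diffMap G).left = s.fst → m ≫ pullback.fst G.hom G.hom = s.snd → m = l := by
    intro s
    let T : Over S := Over.mk (s.snd ≫ G.hom)
    let a : T ⟶ G := Over.homMk (U := T) s.snd rfl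
    let c : T ⟶ G := Over.homMk (U := T) s.fst s.condition
    have hac : (a * c).left ≫ G.hom = s.snd ≫ G.hom := Over.w (a * c)
    have hdiff : ∀ m : T ⟶ sq G, m ≫ diffMap G =
        (m ≫ Over.homMk (U := sq G) (pullback.fst G.hom G.hom) rfl)⁻¹ *
          (m ≫ Over.homMk (U := sq G) (pullback.snd G.hom G.hom) pullback.condition.symm) := fun m => by
      rw [diffMap, MonObj.comp_mul, GrpObj.comp_inv]
    let L : T ⟶ sq G := Over.homMk (pullback.lift s.snd (a * c).left hac.symm)
      ((pullback.lift_fst_assoc _ _ _ _).trans rfl)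
    refine ⟨L.left, ?_, pullback.lift_fst _ _ _, fun m hm1 hm2 => ?_⟩
    · have h1 : L ≫ diffMap G = c := by
        rw [hdiff, show L ≫ Over.homMk (U := sq G) (pullback.fst G.hom G.hom) rfl = a from
          Over.OverMorphism.ext (pullback.lift_fst _ _ _),
          show L ≫ Over.homMk (U := sq G) (pullback.snd G.hom G.hom) pullback.condition.symm = a * c from
          Over.OverMorphism.ext (pullback.lift_snd _ _ _), inv_mul_cancel_left]
      exact congrArg CommaMorphism.left h1
    · let m' : T ⟶ sq G := Over.homMk m (by show m ≫ pullback.fst _ _ ≫ G.hom = _; rw [← Category.assoc, hm2]; rfl)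
      have h1 : m' ≫ diffMap G = c := Over.OverMorphism.ext hm1
      rw [hdiff, show m' ≫ Over.homMk (U := sq G) (pullback.fst G.hom G.hom) rfl = a from
          Over.OverMorphism.ext hm2, inv_mul_eq_iff_eq_mul] at h1
      apply pullback.hom_ext
      · exact hm2.trans (pullback.lift_fst _ _ _).symm
      · exact (congrArg CommaMorphism.left h1).trans (pullback.lift_snd _ _ _).symm
  choose l hl1 hl2 hl3 using key
  exact ⟨⟨Over.w (diffMap G)⟩, ⟨PullbackCone.IsLimit.mk _ l hl1 hl2 hl3⟩⟩

theorem exists_omega_iso [QuasiSeparated G.hom] :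
    Nonempty (Omega.sheaf G.hom ≅ (Scheme.Modules.pullback G.hom).obj (Omega.conormal η[G].left)) := by
  have he : η[G].left ≫ G.hom = 𝟙 S := Over.w η[G]
  have : QuasiCompact (η[G].left ≫ G.hom) := by rw [he]; exact ⟨fun _ _ h => h⟩
  have : QuasiCompact η[G].left := QuasiCompact.of_comp η[G].left G.hom
  obtain ⟨e⟩ := exists_pullback_conormal_iso η[G].left (diffMap G).left (pullback.diagonal G.hom)
    G.hom G.hom (pullback.fst G.hom G.hom) he (pullback.diagonal_fst _) (isPullback_diffMap G)
    (diagonal_diffMap G)
  exact ⟨e.symm⟩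

end Groth.Agent.Omega57
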