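import Groth.Agent.Omega57.Pull
import Groth.Agent.QC70.FiniteType
import Mathlib.RingTheory.Kaehler.Basic
import Mathlib.AlgebraicGeometry.Morphisms.QuasiSeparated

/-!
The sheaf of differentials of `Spec A ⟶ Spec R` is the sheaf of Kähler differentials.
-/

set_option autoImplicit false
set_option backward.isDefEq.respectTransparency.types false

noncomputable section

universe u

open CategoryTheory Limits AlgebraicGeometry TopologicalSpace Opposite TensorProduct
open Groth.Agent.QC70

namespace Groth.Agent.Omega57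

theorem isQuasicoherent_idealMod {P : Scheme.{u}} (I : P.IdealSheafData) :
    (ClSub.idealMod I).IsQuasicoherent := by
  have h1 : (Coh.structureModule P).IsQuasicoherent := QC70.isQuasicoherent_unit (X := P)
  have h2 : (ClSub.quotMod I).IsQuasicoherent := by
    have h3 : (Coh.structureModule I.subscheme).IsQuasicoherent := QC70.isQuasicoherent_unit (X := I.subscheme)
    exact QCqs72.isQuasicoherent_pushforward (M := Coh.structureModule I.subscheme) I.subschemeι
  exact QC70.isQuasicoherent_kernel (ClSub.toSubscheme I)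

theorem idealSect_injective {P : Scheme.{u}} (I : P.IdealSheafData) (U : P.Opens) :
    Function.Injective (OmegaSh.idealSect I U) := fun a b h =>
  OmegaSh.idealModι_app_injective (W := U) I h

theorem idealSect_smul {P : Scheme.{u}} (I : P.IdealSheafData) (U : P.Opens) (r : Γ(P, U))
    (m : Γ(ClSub.idealMod I, U)) : OmegaSh.idealSect I U (r • m) = r * OmegaSh.idealSect I U m := by
  rw [OmegaSh.idealSect_apply, Scheme.Modules.Hom.app_smul]
  rfl

theorem subschemeι_idealSect {P : Scheme.{u}} (I : P.IdealSheafData) (U : P.Opens)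
    (m : Γ(ClSub.idealMod I, U)) : I.subschemeι.app U (OmegaSh.idealSect I U m) = 0 :=
  congr(Scheme.Modules.Hom.app $(kernel.condition (ClSub.toSubscheme I)) U m)

theorem exists_idealSect_eq {P : Scheme.{u}} (I : P.IdealSheafData) (U : P.Opens) (x : Γ(P, U))
    (hx : I.subschemeι.app U x = 0) : ∃ m, OmegaSh.idealSect I U m = x :=
  ⟨OmegaSh.kerLift (ClSub.toSubscheme I) U (OmegaSh.strSect P U x)
      ((OmegaSh.toSubscheme_app_strSect U I x).trans hx),
    OmegaSh.ι_kerLift _ _ _ _⟩

variable (R A : Type u) [CommRing R] [CommRing A] [Algebra R A]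

/-- the structure morphism -/
abbrev str : Spec (CommRingCat.of A) ⟶ Spec (CommRingCat.of R) :=
  Spec.map (CommRingCat.ofHom (algebraMap R A))

/-- global functions of the self product -/
def prodRingEquiv : Γ(pullback (str R A) (str R A), ⊤) ≅ CommRingCat.of (A ⊗[R] A) :=
  Scheme.Γ.mapIso (pullbackSpecIso R A A).symm.op ≪≫ Scheme.ΓSpecIso _

theorem prodRingEquiv_hom : (prodRingEquiv R A).hom =
    (pullbackSpecIso R A A).inv.appTop ≫ (Scheme.ΓSpecIso _).hom := rfl

theorem prodRingEquiv_fst (a : A) :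
    (prodRingEquiv R A).hom ((pullback.fst (str R A) (str R A)).appTop
      ((Scheme.ΓSpecIso (CommRingCat.of A)).inv a)) = a ⊗ₜ 1 := by
  rw [prodRingEquiv_hom]
  simp only [← ConcreteCategory.comp_apply, Category.assoc]
  rw [← Scheme.Hom.comp_appTop_assoc, pullbackSpecIso_inv_fst, Scheme.ΓSpecIso_naturality,
    Iso.inv_hom_id_assoc]
  rfl

theorem prodRingEquiv_snd (a : A) :
    (prodRingEquiv R A).hom ((pullback.snd (str R A) (str R A)).appTop
      ((Scheme.ΓSpecIso (CommRingCat.of A)).inv a)) = 1 ⊗ₜ a := by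
  rw [prodRingEquiv_hom]
  simp only [← ConcreteCategory.comp_apply, Category.assoc]
  rw [← Scheme.Hom.comp_appTop_assoc, pullbackSpecIso_inv_snd, Scheme.ΓSpecIso_naturality,
    Iso.inv_hom_id_assoc]
  rfl

theorem sectRingHom_diagonal (x : Γ(pullback (str R A) (str R A), ⊤)) :
    sectRingHom (pullback.diagonal (str R A)) x =
      Algebra.TensorProduct.lmul' R ((prodRingEquiv R A).hom x) := by
  have h : pullback.diagonal (str R A) = Spec.map (CommRingCat.ofHom
      (Algebra.TensorProduct.lmul' (S := A) R).toRingHom) ≫ (pullbackSpecIso R A A).inv := by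
    apply pullback.hom_ext
    · rw [pullback.diagonal_fst, Category.assoc, pullbackSpecIso_inv_fst, ← Spec.map_comp, ← Spec.map_id]
      congr 1
      ext a; simp
    · rw [pullback.diagonal_snd, Category.assoc, pullbackSpecIso_inv_snd, ← Spec.map_comp, ← Spec.map_id]
      congr 1
      ext a; simp
  rw [sectRingHom, h, Scheme.Hom.comp_appTop, Category.assoc, Scheme.ΓSpecIso_naturality,
    prodRingEquiv_hom]
  rfl

theorem exists_iso :
    ∃ e : Omega.sheaf (str R A) ≅ tilde (R := CommRingCat.of A) (ModuleCat.of A (Ω[A⁄R])),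
      ∀ a : A, e.hom.app ⊤ (OmegaSh.dSect (str R A) ⊤ (OmAff.toΓ A a)) =
        toTop (R := CommRingCat.of A) (ModuleCat.of A (Ω[A⁄R])) (KaehlerDifferential.D R A a) := by
  let Δ := pullback.diagonal (str R A)
  let M := ClSub.idealMod Δ.ker
  have : M.IsQuasicoherent := isQuasicoherent_idealMod _
  have hP : IsAffineOpen (⊤ : (pullback (str R A) (str R A)).Opens) :=
    isAffineOpen_top _
  let E := (prodRingEquiv R A).commRingCatIsoToRingEquiv
  have hE : ∀ x, E x = (prodRingEquiv R A).hom x := fun _ => rfl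
  let ψ := sectRingHom Δ
  have hψE : ∀ x, ψ x = Algebra.TensorProduct.lmul' R (E x) := sectRingHom_diagonal R A
  have hker : ∀ x, Δ.ker.subschemeι.app ⊤ x = 0 ↔ ψ x = 0 := fun x => by
    have h1 := Scheme.IdealSheafData.ker_subschemeι_app Δ.ker ⟨⊤, hP⟩
    rw [Scheme.Hom.ker_apply] at h1
    have h2 : Δ.ker.subschemeι.app ⊤ x = 0 ↔ Δ.appTop x = 0 := SetLike.ext_iff.1 h1 x
    rw [h2]
    exact (map_eq_zero_iff (Scheme.ΓSpecIso (CommRingCat.of A)).hom.hom
      (ConcreteCategory.bijective_of_isIso (Scheme.ΓSpecIso (CommRingCat.of A)).hom).1).symm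
  have hmem : ∀ m, E (OmegaSh.idealSect Δ.ker ⊤ m) ∈ KaehlerDifferential.ideal R A := fun m =>
    RingHom.mem_ker.2 ((hψE _).symm.trans ((hker _).1 (subschemeι_idealSect _ _ m)))
  let θ : Γ(M, ⊤) →+ Ω[A⁄R] :=
    { toFun := fun m => KaehlerDifferential.fromIdeal R A ⟨E (OmegaSh.idealSect Δ.ker ⊤ m), hmem m⟩
      map_zero' := by
        rw [← map_zero (KaehlerDifferential.fromIdeal R A)]
        congr 1; ext1
        exact (congrArg E (map_zero _)).trans (map_zero E)
      map_add' := fun a b => by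
        rw [← map_add]
        congr 1; ext1
        exact (congrArg E (map_add _ a b)).trans (map_add E _ _) }
  have hθsmul : ∀ r m, θ (r • m) = ψ r • θ m := fun r m => by
    show KaehlerDifferential.fromIdeal R A _ = _
    rw [show (⟨E (OmegaSh.idealSect Δ.ker ⊤ (r • m)), hmem _⟩ : KaehlerDifferential.ideal R A) =
      E r • ⟨E (OmegaSh.idealSect Δ.ker ⊤ m), hmem m⟩ by ext1; exact (congrArg E (idealSect_smul _ _ r m)).trans (map_mul E _ _), map_smul]
    show E r • θ m = _
    obtain ⟨w, hw⟩ : ∃ w, θ m = w := ⟨_, rfl⟩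
    rw [hw]
    obtain ⟨z, rfl⟩ := KaehlerDifferential.fromIdeal_surjective R A w
    have hd : E r - (ψ r) ⊗ₜ[R] (1 : A) ∈ KaehlerDifferential.ideal R A := by
      simp [RingHom.mem_ker, hψE]
    have h0 := Ideal.Cotangent.smul_eq_zero_of_mem hd (KaehlerDifferential.fromIdeal R A z)
    rw [sub_smul, sub_eq_zero] at h0
    refine h0.trans ?_
    rw [show (ψ r) ⊗ₜ[R] (1 : A) = algebraMap A (A ⊗[R] A) (ψ r) from rfl, algebraMap_smul]
    rfl
  have hθsurj : Function.Surjective θ := fun w => by
    obtain ⟨⟨z, hz⟩, rfl⟩ := KaehlerDifferential.fromIdeal_surjective R A w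
    obtain ⟨m, hm⟩ := exists_idealSect_eq Δ.ker ⊤ (E.symm z)
      ((hker _).2 ((hψE _).trans (by rw [E.apply_symm_apply]; exact hz)))
    exact ⟨m, congrArg (KaehlerDifferential.fromIdeal R A) (Subtype.ext (by
      show E _ = z; rw [hm, E.apply_symm_apply]))⟩
  have hψsurj : Function.Surjective ψ := fun a =>
    ⟨E.symm (a ⊗ₜ 1), by rw [hψE, E.apply_symm_apply]; simp⟩
  obtain ⟨e, he⟩ := exists_pullback_iso Δ M hP (ModuleCat.of A (Ω[A⁄R])) θ hθsmul hθsurj hψsurj (by
    intro N g hg m hm
    have h1 : E (OmegaSh.idealSect Δ.ker ⊤ m) ∈ (KaehlerDifferential.ideal R A) ^ 2 :=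
      (Ideal.toCotangent_eq_zero _ ⟨_, hmem m⟩).1 hm
    have key : ∀ z, z ∈ (KaehlerDifferential.ideal R A) ^ 2 →
        ∃ k, E (OmegaSh.idealSect Δ.ker ⊤ k) = z ∧ g k = 0 := by
      intro z hz
      rw [pow_two] at hz
      induction hz using Submodule.mul_induction_on' with
      | mem_mul_mem a ha b hb =>
        obtain ⟨k, hk⟩ := exists_idealSect_eq Δ.ker ⊤ (E.symm b)
          ((hker _).2 ((hψE _).trans (by rw [E.apply_symm_apply]; exact hb)))
        refine ⟨E.symm a • k, by rw [idealSect_smul, map_mul, E.apply_symm_apply, hk, E.apply_symm_apply], ?_⟩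
        rw [hg, show ψ (E.symm a) = 0 from (hψE _).trans (by rw [E.apply_symm_apply]; exact ha)]
        rw [Scheme.Modules.smul_Spec_def, map_zero, map_zero]
        exact zero_smul _ (g k)
      | add a _ b _ ha hb =>
        obtain ⟨k, hk, hgk⟩ := ha
        obtain ⟨k', hk', hgk'⟩ := hb
        exact ⟨k + k', by rw [map_add, map_add, hk, hk'], by rw [map_add, hgk, hgk', add_zero]⟩
    obtain ⟨k, hk, hgk⟩ := key _ h1
    rwa [idealSect_injective _ _ (E.injective hk)] at hgk)
  refine ⟨e, fun a => ?_⟩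
  let f := str R A
  have hle : (⊤ : (pullback f f).Opens) ≤ OmegaSh.diagNbhd f ⊤ := fun x _ => ⟨trivial, trivial⟩
  let m : Γ(M, ⊤) := res M hle (OmegaSh.idealLift f ⊤ (OmAff.toΓ A a))
  have hm : OmegaSh.idealSect Δ.ker ⊤ m =
      (pullback.snd f f).appTop (OmAff.toΓ A a) - (pullback.fst f f).appTop (OmAff.toΓ A a) := by
    show OmegaSh.fnSect _ _ ((ClSub.idealModι Δ.ker).app ⊤ m) = _
    rw [show m = (ClSub.idealMod Δ.ker).presheaf.map (homOfLE hle).op _ from rfl,
      OmegaSh.idealModι_app_map, OmegaSh.ι_idealLift]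
    show (pullback f f).presheaf.map (homOfLE hle).op (OmegaSh.diagDiff f ⊤ (OmAff.toΓ A a)) = _
    rw [OmegaSh.diagDiff, map_sub]
    simp only [← ConcreteCategory.comp_apply, Category.assoc, Scheme.Hom.appLE_map]
    simp only [Scheme.Hom.appTop, Scheme.Hom.app_eq_appLE]
    rfl
  have hθm : θ m = KaehlerDifferential.D R A a := by
    rw [KaehlerDifferential.D_apply]
    refine congrArg (KaehlerDifferential.fromIdeal R A) (Subtype.ext ?_)
    show E (OmegaSh.idealSect Δ.ker ⊤ m) = _
    rw [hm, map_sub, hE, hE, prodRingEquiv_fst, prodRingEquiv_snd]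
  have hd : OmegaSh.dSect f ⊤ (OmAff.toΓ A a) = topSect Δ (OmegaSh.pullSect Δ M ⊤ m) := by
    rw [OmegaSh.pullSect_map Δ M hle]
    rfl
  rw [hd, ← hθm]
  exact he m

theorem bijective_toSpec : Function.Bijective (OmAff.toSpec R A) := by
  obtain ⟨e, he⟩ := exists_iso R A
  let T := toTop (R := CommRingCat.of A) (ModuleCat.of A (Ω[A⁄R]))
  let p := fun x => e.hom.app ⊤ (OmAff.toSpec R A x)
  have hp : ∀ x, p x = T x := by
    intro x
    have hx : x ∈ Submodule.span A (Set.range (KaehlerDifferential.D R A)) := by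
      rw [KaehlerDifferential.span_range_derivation]; trivial
    induction hx using Submodule.span_induction with
    | mem y hy =>
      obtain ⟨a, rfl⟩ := hy
      show e.hom.app ⊤ (OmAff.toSpec R A _) = _
      rw [OmAff.toSpec_D]
      exact he a
    | zero =>
      show e.hom.app ⊤ (OmAff.toSpec R A 0) = _
      rw [map_zero, map_zero, map_zero]
    | add y z _ _ hy hz =>
      show e.hom.app ⊤ (OmAff.toSpec R A (y + z)) = _
      rw [map_add, map_add, map_add]
      exact congrArg₂ (· + ·) hy hz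
    | smul a y _ hy =>
      show e.hom.app ⊤ (OmAff.toSpec R A (a • y)) = _
      rw [LinearMap.map_smulₛₗ, Scheme.Modules.Hom.app_smul]
      refine (congrArg (OmAff.toΓ A a • ·) hy).trans ?_
      rw [toTop_smul, resO_self]
  have hinj : Function.Bijective (e.hom.app ⊤) :=
    Function.bijective_iff_has_inverse.2 ⟨e.inv.app ⊤,
      fun x => congr(Scheme.Modules.Hom.app $(e.hom_inv_id) ⊤ x),
      fun x => congr(Scheme.Modules.Hom.app $(e.inv_hom_id) ⊤ x)⟩
  have hT : Function.Bijective T := ConcreteCategory.bijective_of_isIso (tilde.toOpen _ ⊤)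
  exact (Function.Bijective.of_comp_iff' hinj _).1
    (show Function.Bijective p from (funext hp : p = fun x => T x) ▸ hT)

end Groth.Agent.Omega57
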