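import Groth.Prelude.Def_Omega4
import Mathlib.AlgebraicGeometry.Morphisms.Affine
import Mathlib.RingTheory.IsTensorProduct
import Mathlib.Algebra.Category.Ring.Constructions
import Mathlib.RingTheory.TensorProduct.Maps

/-!
The neighbourhood `U ×_V U` of the diagonal for affine `U ⊆ X`, `V ⊆ Y`.
-/

set_option autoImplicit false
set_option backward.isDefEq.respectTransparency.types false

noncomputable section

universe u

open CategoryTheory Limits AlgebraicGeometry TopologicalSpace Opposite TensorProduct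

namespace Groth.Agent.Omega57

variable {X Y : Scheme.{u}} (f : X ⟶ Y) {U : X.Opens} {V : Y.Opens} (h : U ≤ f ⁻¹ᵁ V)

theorem isPullback_diagNbhd :
    IsPullback ((pullback.fst f f).resLE U (OmegaSh.diagNbhd f U) inf_le_left)
      ((pullback.snd f f).resLE U (OmegaSh.diagNbhd f U) inf_le_right)
      (f.resLE V U h) (f.resLE V U h) := by
  let W := OmegaSh.diagNbhd f U
  have hw : (pullback.fst f f).resLE U W inf_le_left ≫ f.resLE V U h =
      (pullback.snd f f).resLE U W inf_le_right ≫ f.resLE V U h := by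
    rw [← cancel_mono V.ι]
    simp [pullback.condition]
  have key : ∀ s : PullbackCone (f.resLE V U h) (f.resLE V U h),
      ∃ l : s.pt ⟶ (W : Scheme.{u}), l ≫ W.ι ≫ pullback.fst f f = s.fst ≫ U.ι ∧
        l ≫ W.ι ≫ pullback.snd f f = s.snd ≫ U.ι := by
    intro s
    have hc : (s.fst ≫ U.ι) ≫ f = (s.snd ≫ U.ι) ≫ f := by
      have := congrArg (· ≫ V.ι) s.condition
      simpa using this
    let L := pullback.lift (s.fst ≫ U.ι) (s.snd ≫ U.ι) hc
    have hr : Set.range L ⊆ Set.range W.ι := by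
      rw [Scheme.Opens.range_ι]
      rintro _ ⟨z, rfl⟩
      refine ⟨?_, ?_⟩
      · show pullback.fst f f (L z) ∈ U
        rw [← Scheme.Hom.comp_apply, pullback.lift_fst, Scheme.Hom.comp_apply]
        exact (s.fst z).2
      · show pullback.snd f f (L z) ∈ U
        rw [← Scheme.Hom.comp_apply, pullback.lift_snd, Scheme.Hom.comp_apply]
        exact (s.snd z).2
    exact ⟨IsOpenImmersion.lift W.ι L hr,
      (IsOpenImmersion.lift_fac_assoc W.ι L hr _).trans (pullback.lift_fst _ _ _),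
      (IsOpenImmersion.lift_fac_assoc W.ι L hr _).trans (pullback.lift_snd _ _ _)⟩
  choose l hl1 hl2 using key
  refine ⟨⟨hw⟩, ⟨PullbackCone.IsLimit.mk _ l (fun s => ?_) (fun s => ?_) (fun s m hm1 hm2 => ?_)⟩⟩
  · rw [← cancel_mono U.ι, Category.assoc, Scheme.Hom.resLE_comp_ι]; exact hl1 s
  · rw [← cancel_mono U.ι, Category.assoc, Scheme.Hom.resLE_comp_ι]; exact hl2 s
  · rw [← cancel_mono W.ι]
    apply pullback.hom_ext
    · rw [Category.assoc, Category.assoc, hl1, ← hm1, Category.assoc, Scheme.Hom.resLE_comp_ι]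
    · rw [Category.assoc, Category.assoc, hl2, ← hm2, Category.assoc, Scheme.Hom.resLE_comp_ι]

theorem isAffineOpen_diagNbhd (hU : IsAffineOpen U) (hV : IsAffineOpen V) (h : U ≤ f ⁻¹ᵁ V) :
    IsAffineOpen (OmegaSh.diagNbhd f U) := by
  have : IsAffine (U : Scheme.{u}) := hU
  have : IsAffine (V : Scheme.{u}) := hV
  exact IsAffine.of_isPullback (isPullback_diagNbhd f h)

theorem isPushout_diagNbhd (hU : IsAffineOpen U) (hV : IsAffineOpen V) :
    IsPushout (f.appLE V U h) (f.appLE V U h)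
      ((pullback.fst f f).appLE U (OmegaSh.diagNbhd f U) inf_le_left)
      ((pullback.snd f f).appLE U (OmegaSh.diagNbhd f U) inf_le_right) := by
  have : IsAffine (U : Scheme.{u}) := hU
  have : IsAffine (V : Scheme.{u}) := hV
  refine (isPushout_appTop_of_isPullback (isPullback_diagNbhd f h)).of_iso
    V.topIso U.topIso U.topIso (OmegaSh.diagNbhd f U).topIso ?_ ?_ ?_ ?_ <;>
    · simp only [Scheme.Hom.appTop, Scheme.Hom.resLE_app_top, Category.assoc, Iso.inv_hom_id,
        Category.comp_id]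

/-- `A ⊗_B A ≅ Γ(U ×_V U)` -/
theorem exists_nbhdRingEquiv (hU : IsAffineOpen U) (hV : IsAffineOpen V) :
    letI := (f.appLE V U h).hom.toAlgebra
    ∃ E : Γ(pullback f f, OmegaSh.diagNbhd f U) ≃+* Γ(X, U) ⊗[Γ(Y, V)] Γ(X, U),
      (∀ a, E ((pullback.fst f f).appLE U (OmegaSh.diagNbhd f U) inf_le_left a) = a ⊗ₜ 1) ∧
      ∀ a, E ((pullback.snd f f).appLE U (OmegaSh.diagNbhd f U) inf_le_right a) = 1 ⊗ₜ a := by
  letI := (f.appLE V U h).hom.toAlgebra
  have hpo : IsPushout (f.appLE V U h) (f.appLE V U h)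
      (CommRingCat.ofHom (Algebra.TensorProduct.includeLeftRingHom (R := Γ(Y, V)) (A := Γ(X, U)) (B := Γ(X, U))))
      (CommRingCat.ofHom (RingHomClass.toRingHom (Algebra.TensorProduct.includeRight (R := Γ(Y, V)) (A := Γ(X, U)) (B := Γ(X, U))))) :=
    CommRingCat.isPushout_tensorProduct Γ(Y, V) Γ(X, U) Γ(X, U)
  let e := (isPushout_diagNbhd f h hU hV).isoIsPushout _ _ hpo
  refine ⟨e.commRingCatIsoToRingEquiv, fun a => ?_, fun a => ?_⟩
  · exact congr($((isPushout_diagNbhd f h hU hV).inl_isoIsPushout_hom _ _ hpo) a)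
  · exact congr($((isPushout_diagNbhd f h hU hV).inr_isoIsPushout_hom _ _ hpo) a)

end Groth.Agent.Omega57
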