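import Groth.Agent.Omega57.PullOpen
import Groth.Agent.Omega57.Nbhd
import Groth.Agent.Omega57.Diag

/-!
`OmAff.toSect` is an isomorphism for affine opens.
-/

set_option autoImplicit false
set_option backward.isDefEq.respectTransparency.types false

noncomputable section

universe u

open CategoryTheory Limits AlgebraicGeometry TopologicalSpace Opposite TensorProduct
open Groth.Agent.QC70

namespace Groth.Agent.Omega57

variable {X Y : Scheme.{u}} (f : X ⟶ Y) [QuasiSeparated f] {U : X.Opens} {V : Y.Opens}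

theorem le_preimage_fromSpec (hU : IsAffineOpen U) :
    (⊤ : (Spec Γ(X, U)).Opens) ≤ hU.fromSpec ⁻¹ᵁ (pullback.diagonal f ⁻¹ᵁ OmegaSh.diagNbhd f U) :=
  fun x _ => OmegaSh.le_preimage_diagNbhd f U (hU.range_fromSpec.le ⟨x, rfl⟩)

theorem ringHomOpen_appLE (hU : IsAffineOpen U) (p : pullback f f ⟶ X)
    (hp : pullback.diagonal f ≫ p = 𝟙 X) (e : OmegaSh.diagNbhd f U ≤ p ⁻¹ᵁ U) (a : Γ(X, U)) :
    ringHomOpen (pullback.diagonal f) hU.fromSpec (le_preimage_fromSpec f hU)
      (p.appLE U (OmegaSh.diagNbhd f U) e a) = a := by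
  have h1 : ((hU.fromSpec ≫ pullback.diagonal f) ≫ p).appLE U ⊤
      (fun x _ => e (OmegaSh.le_preimage_diagNbhd f U (hU.range_fromSpec.le ⟨x, rfl⟩))) =
        (Scheme.ΓSpecIso Γ(X, U)).inv := by
    rw [OmegaSh.appLE_congr_hom (show (hU.fromSpec ≫ pullback.diagonal f) ≫ p = hU.fromSpec by
      rw [Category.assoc, hp, Category.comp_id]) _ (hU.fromSpec_preimage_self.ge)]
    rw [Scheme.Hom.appLE, hU.fromSpec_app_self, Category.assoc, ← Functor.map_comp]
    refine (congrArg ((Scheme.ΓSpecIso Γ(X, U)).inv ≫ ·) ?_).trans (Category.comp_id _)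
    exact (Spec Γ(X, U)).presheaf.map_id _
  show (Scheme.ΓSpecIso Γ(X, U)).hom (((p.appLE U _ e) ≫ (hU.fromSpec ≫ pullback.diagonal f).appLE
    (OmegaSh.diagNbhd f U) ⊤ (le_preimage_fromSpec f hU)) a) = a
  rw [Scheme.Hom.appLE_comp_appLE, h1, Iso.inv_hom_id_apply]

theorem subschemeι_eq_zero_iff (hU : IsAffineOpen U) (hV : IsAffineOpen V) (h : U ≤ f ⁻¹ᵁ V)
    (x : Γ(pullback f f, OmegaSh.diagNbhd f U)) :
    (pullback.diagonal f).ker.subschemeι.app (OmegaSh.diagNbhd f U) x = 0 ↔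
      ringHomOpen (pullback.diagonal f) hU.fromSpec (le_preimage_fromSpec f hU) x = 0 := by
  let Δ := pullback.diagonal f
  have h1 := Scheme.IdealSheafData.ker_subschemeι_app Δ.ker
    ⟨OmegaSh.diagNbhd f U, isAffineOpen_diagNbhd f hU hV h⟩
  rw [Scheme.Hom.ker_apply] at h1
  have h2 : Δ.ker.subschemeι.app (OmegaSh.diagNbhd f U) x = 0 ↔ Δ.app (OmegaSh.diagNbhd f U) x = 0 :=
    SetLike.ext_iff.1 h1 x
  rw [h2]
  have hle : Δ ⁻¹ᵁ OmegaSh.diagNbhd f U ≤ U := OmegaSh.diagonal_preimage_le f le_rfl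
  have hge : U ≤ Δ ⁻¹ᵁ OmegaSh.diagNbhd f U := OmegaSh.le_preimage_diagNbhd f U
  have hb : Function.Bijective (X.presheaf.map (homOfLE hge).op) :=
    Function.bijective_iff_has_inverse.2 ⟨X.presheaf.map (homOfLE hle).op,
      fun y => (resO_resO hge hle y).trans (resO_self y),
      fun y => (resO_resO hle hge y).trans (resO_self y)⟩
  have h3 : hU.fromSpec.appLE U ⊤ hU.fromSpec_preimage_self.ge = (Scheme.ΓSpecIso Γ(X, U)).inv := by
    rw [Scheme.Hom.appLE, hU.fromSpec_app_self, Category.assoc, ← Functor.map_comp]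
    refine (congrArg ((Scheme.ΓSpecIso Γ(X, U)).inv ≫ ·) ?_).trans (Category.comp_id _)
    exact (Spec Γ(X, U)).presheaf.map_id _
  have h4 : ringHomOpen Δ hU.fromSpec (le_preimage_fromSpec f hU) x =
      X.presheaf.map (homOfLE hge).op (Δ.app (OmegaSh.diagNbhd f U) x) := by
    show (Scheme.ΓSpecIso Γ(X, U)).hom ((hU.fromSpec ≫ Δ).appLE (OmegaSh.diagNbhd f U) ⊤
      (le_preimage_fromSpec f hU) x) = _
    rw [Scheme.Hom.comp_appLE, ConcreteCategory.comp_apply,
      ← Scheme.Hom.map_appLE hU.fromSpec hU.fromSpec_preimage_self.ge (homOfLE hge).op,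
      ConcreteCategory.comp_apply, h3, Iso.inv_hom_id_apply]
  rw [h4, map_eq_zero_iff _ hb.1]

theorem isIso_toSect (hU : IsAffineOpen U) (hV : IsAffineOpen V) (h : U ≤ f ⁻¹ᵁ V) :
    IsIso (OmAff.toSect f V U h) := by
  letI := (f.appLE V U h).hom.toAlgebra
  let Δ := pullback.diagonal f
  let W := OmegaSh.diagNbhd f U
  let M := ClSub.idealMod Δ.ker
  let B := Γ(Y, V)
  let A := Γ(X, U)
  let j := hU.fromSpec
  have hjW := le_preimage_fromSpec f hU
  have : M.IsQuasicoherent := isQuasicoherent_idealMod _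
  have hW : IsAffineOpen W := isAffineOpen_diagNbhd f hU hV h
  obtain ⟨E, hE1, hE2⟩ := exists_nbhdRingEquiv f h hU hV
  let ψ := ringHomOpen Δ j hjW
  have hψE : ∀ x, ψ x = Algebra.TensorProduct.lmul' Γ(Y, V) (E x) := by
    have key : ∀ t, ψ (E.symm t) = Algebra.TensorProduct.lmul' Γ(Y, V) t := by
      intro t
      induction t using TensorProduct.induction_on with
      | zero => simp
      | add x y hx hy => rw [map_add, map_add, map_add, hx, hy]
      | tmul a b =>
        have e : a ⊗ₜ[Γ(Y, V)] b = (a ⊗ₜ 1) * (1 ⊗ₜ b) := by simp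
        rw [e, ← hE1 a, ← hE2 b, ← map_mul, E.symm_apply_apply, map_mul,
          show ψ _ = a from ringHomOpen_appLE f hU _ (pullback.diagonal_fst f) _ a,
          show ψ _ = b from ringHomOpen_appLE f hU _ (pullback.diagonal_snd f) _ b,
          map_mul, hE1, hE2, map_mul]
        simp
    exact fun x => by rw [← key (E x), E.symm_apply_apply]
  have hker : ∀ x, Δ.ker.subschemeι.app W x = 0 ↔ ψ x = 0 := subschemeι_eq_zero_iff f hU hV h
  have hmem : ∀ m, E (OmegaSh.idealSect Δ.ker W m) ∈ KaehlerDifferential.ideal Γ(Y, V) Γ(X, U) := fun m =>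
    RingHom.mem_ker.2 ((hψE _).symm.trans ((hker _).1 (subschemeι_idealSect _ _ m)))
  let θ : Γ(M, W) →+ Ω[Γ(X, U)⁄Γ(Y, V)] :=
    { toFun := fun m => KaehlerDifferential.fromIdeal Γ(Y, V) Γ(X, U) ⟨E (OmegaSh.idealSect Δ.ker W m), hmem m⟩
      map_zero' := by
        rw [← map_zero (KaehlerDifferential.fromIdeal Γ(Y, V) Γ(X, U))]
        congr 1; ext1
        exact (congrArg E (map_zero _)).trans (map_zero E)
      map_add' := fun a b => by
        rw [← map_add]
        congr 1; ext1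
        exact (congrArg E (map_add _ a b)).trans (map_add E _ _) }
  have hθsmul : ∀ r m, θ (r • m) = ψ r • θ m := fun r m => by
    show KaehlerDifferential.fromIdeal Γ(Y, V) Γ(X, U) _ = _
    rw [show (⟨E (OmegaSh.idealSect Δ.ker W (r • m)), hmem _⟩ : KaehlerDifferential.ideal Γ(Y, V) Γ(X, U)) =
      E r • ⟨E (OmegaSh.idealSect Δ.ker W m), hmem m⟩ by
        ext1; exact (congrArg E (idealSect_smul _ _ r m)).trans (map_mul E _ _), map_smul]
    show E r • θ m = _
    obtain ⟨w, hw⟩ : ∃ w, θ m = w := ⟨_, rfl⟩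
    rw [hw]
    obtain ⟨z, rfl⟩ := KaehlerDifferential.fromIdeal_surjective Γ(Y, V) Γ(X, U) w
    have hd : E r - (ψ r) ⊗ₜ[Γ(Y, V)] (1 : Γ(X, U)) ∈ KaehlerDifferential.ideal Γ(Y, V) Γ(X, U) := by
      simp [RingHom.mem_ker, hψE]
    have h0 := Ideal.Cotangent.smul_eq_zero_of_mem hd (KaehlerDifferential.fromIdeal Γ(Y, V) Γ(X, U) z)
    rw [sub_smul, sub_eq_zero] at h0
    refine h0.trans ?_
    rw [show (ψ r) ⊗ₜ[Γ(Y, V)] (1 : Γ(X, U)) = algebraMap Γ(X, U) (Γ(X, U) ⊗[Γ(Y, V)] Γ(X, U)) (ψ r) from rfl,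
      algebraMap_smul]
    rfl
  have hθsurj : Function.Surjective θ := fun w => by
    obtain ⟨⟨z, hz⟩, rfl⟩ := KaehlerDifferential.fromIdeal_surjective Γ(Y, V) Γ(X, U) w
    obtain ⟨m, hm⟩ := exists_idealSect_eq Δ.ker W (E.symm z)
      ((hker _).2 ((hψE _).trans (by rw [E.apply_symm_apply]; exact hz)))
    exact ⟨m, congrArg (KaehlerDifferential.fromIdeal Γ(Y, V) Γ(X, U)) (Subtype.ext (by
      show E _ = z; rw [hm, E.apply_symm_apply]))⟩
  have hψsurj : Function.Surjective ψ := fun a =>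
    ⟨(pullback.fst f f).appLE U W inf_le_left a, ringHomOpen_appLE f hU _ (pullback.diagonal_fst f) _ a⟩
  obtain ⟨e, he⟩ := exists_restrict_pullback_iso Δ M j hjW hW (ModuleCat.of A (Ω[Γ(X, U)⁄Γ(Y, V)]))
      θ hθsmul hθsurj hψsurj (by
    intro N g hg m hm
    have h1 : E (OmegaSh.idealSect Δ.ker W m) ∈ (KaehlerDifferential.ideal Γ(Y, V) Γ(X, U)) ^ 2 :=
      (Ideal.toCotangent_eq_zero _ ⟨_, hmem m⟩).1 hm
    have key : ∀ z, z ∈ (KaehlerDifferential.ideal Γ(Y, V) Γ(X, U)) ^ 2 →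
        ∃ k, E (OmegaSh.idealSect Δ.ker W k) = z ∧ g k = 0 := by
      intro z hz
      rw [pow_two] at hz
      induction hz using Submodule.mul_induction_on' with
      | mem_mul_mem a ha b hb =>
        obtain ⟨k, hk⟩ := exists_idealSect_eq Δ.ker W (E.symm b)
          ((hker _).2 ((hψE _).trans (by rw [E.apply_symm_apply]; exact hb)))
        refine ⟨E.symm a • k, by rw [idealSect_smul, map_mul, E.apply_symm_apply, hk, E.apply_symm_apply], ?_⟩
        rw [hg, show ψ (E.symm a) = 0 from (hψE _).trans (by rw [E.apply_symm_apply]; exact ha)]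
        rw [Scheme.Modules.smul_Spec_def, map_zero, map_zero]
        exact zero_smul _ (g k)
      | add a _ b _ ha hb =>
        obtain ⟨k, hk, hgk⟩ := ha
        obtain ⟨k', hk', hgk'⟩ := hb
        exact ⟨k + k', by rw [map_add, map_add, hk, hk'], by rw [map_add, hgk, hgk', add_zero]⟩
    obtain ⟨k, hk, hgk⟩ := key _ h1
    rwa [idealSect_injective _ _ (E.injective hk)] at hgk)
  let F := Omega.sheaf f
  have himg : j ''ᵁ ⊤ ≤ U := (fromSpec_image_top hU).le
  let ρ : Γ(F, U) → Γ(specRes F hU, ⊤) := fun x => (F.restrictAppIso j ⊤).inv (res F himg x)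
  have hρb : Function.Bijective ρ :=
    (ConcreteCategory.bijective_of_isIso (F.restrictAppIso j ⊤).inv).comp
      (res_bijective F himg (fromSpec_image_top hU).ge)
  have hρadd : ∀ x y, ρ (x + y) = ρ x + ρ y := fun x y =>
    (congrArg _ (res_add himg x y)).trans (map_add _ _ _)
  have hρsmul : ∀ (a : Γ(X, U)) x, ρ (a • x) = a • ρ x := fun a x => by
    apply (ConcreteCategory.bijective_of_isIso (F.restrictAppIso j ⊤).hom).1
    rw [specRes_smul F hU ⊤ himg, Iso.inv_hom_id_apply, Iso.inv_hom_id_apply, res_smul]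
  let T := toTop (R := A) (ModuleCat.of A (Ω[Γ(X, U)⁄Γ(Y, V)]))
  have hgen : ∀ a, e.hom.app ⊤ (ρ (OmegaSh.dSect f U a)) = T (KaehlerDifferential.D Γ(Y, V) Γ(X, U) a) := by
    intro a
    have h1 : pullOpen Δ M j hjW (OmegaSh.idealLift f U a) = ρ (OmegaSh.dSect f U a) := by
      have a1 : j ''ᵁ ⊤ ≤ j ''ᵁ (j ⁻¹ᵁ (Δ ⁻¹ᵁ W)) := j.image_mono hjW
      have a2 : j ''ᵁ (j ⁻¹ᵁ (Δ ⁻¹ᵁ W)) ≤ Δ ⁻¹ᵁ W := j.image_preimage_le _
      exact (res_res a2 a1 (OmegaSh.pullSect Δ M W (OmegaSh.idealLift f U a))).trans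
        (res_res (OmegaSh.le_preimage_diagNbhd f U) himg _).symm
    have h2 : θ (OmegaSh.idealLift f U a) = KaehlerDifferential.D Γ(Y, V) Γ(X, U) a := by
      rw [KaehlerDifferential.D_apply]
      refine congrArg (KaehlerDifferential.fromIdeal Γ(Y, V) Γ(X, U)) (Subtype.ext ?_)
      show E (OmegaSh.idealSect Δ.ker W (OmegaSh.idealLift f U a)) = _
      rw [show OmegaSh.idealSect Δ.ker W (OmegaSh.idealLift f U a) = OmegaSh.diagDiff f U a from
        congrArg (OmegaSh.fnSect _ _) (OmegaSh.ι_idealLift f U a), OmegaSh.diagDiff, map_sub, hE1, hE2]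
    rw [← h1, ← h2]
    exact he _
  let p : Ω[Γ(X, U)⁄Γ(Y, V)] → Γ(tilde (R := A) (ModuleCat.of A (Ω[Γ(X, U)⁄Γ(Y, V)])), ⊤) :=
    fun x => e.hom.app ⊤ (ρ ((OmAff.toSect f V U h).hom x))
  have hp : ∀ x, p x = T x := by
    intro x
    have hx : x ∈ Submodule.span Γ(X, U) (Set.range (KaehlerDifferential.D Γ(Y, V) Γ(X, U))) := by
      rw [KaehlerDifferential.span_range_derivation]; trivial
    induction hx using Submodule.span_induction with
    | mem y hy =>
      obtain ⟨a, rfl⟩ := hy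
      exact (congrArg (fun z => e.hom.app ⊤ (ρ z)) (OmAff.toSect_d f V U h a)).trans (hgen a)
    | zero =>
      show e.hom.app ⊤ (ρ ((OmAff.toSect f V U h).hom 0)) = T 0
      rw [map_zero, map_zero]
      refine (congrArg _ ?_).trans (map_zero _)
      exact (congrArg _ (res_zero himg)).trans (map_zero _)
    | add y z _ _ hy hz =>
      show e.hom.app ⊤ (ρ ((OmAff.toSect f V U h).hom (y + z))) = T (y + z)
      erw [map_add (OmAff.toSect f V U h).hom, hρadd, map_add, map_add]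
      exact congrArg₂ (· + ·) hy hz
    | smul a y _ hy =>
      show e.hom.app ⊤ (ρ ((OmAff.toSect f V U h).hom (a • y))) = T (a • y)
      erw [map_smul (OmAff.toSect f V U h).hom, hρsmul, Scheme.Modules.smul_Spec_def, Scheme.Modules.Hom.app_smul]
      refine (congrArg (_ • ·) hy).trans ?_
      rw [← Scheme.Modules.smul_Spec_def, map_smul]
  have he' : Function.Bijective (e.hom.app ⊤) :=
    Function.bijective_iff_has_inverse.2 ⟨e.inv.app ⊤,
      fun x => congr(Scheme.Modules.Hom.app $(e.hom_inv_id) ⊤ x),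
      fun x => congr(Scheme.Modules.Hom.app $(e.inv_hom_id) ⊤ x)⟩
  have hT : Function.Bijective T := ConcreteCategory.bijective_of_isIso (tilde.toOpen _ ⊤)
  rw [ConcreteCategory.isIso_iff_bijective]
  exact (Function.Bijective.of_comp_iff' (he'.comp hρb) _).1
    (show Function.Bijective p from (funext hp : p = fun x => T x) ▸ hT)

end Groth.Agent.Omega57
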