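import Mathlib.RingTheory.TensorProduct.Maps
import Mathlib.RingTheory.Ideal.Maps
import Mathlib.LinearAlgebra.TensorProduct.Tower

/-!
Semilinear maps out of the ideal of a section, after base change.

`B` is an `R`-algebra with augmentation `ε`, `A` an `R`-algebra, `C = A ⊗[R] B` with the induced
augmentation `ε'`.  A semilinear map out of `ker ε` extends uniquely to `ker ε'`.
-/

set_option autoImplicit false

noncomputable section

universe u

open TensorProduct

namespace Groth.Agent.Omega57

variable {R A B C : Type u} [CommRing R] [CommRing A] [CommRing B] [CommRing C]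
  [Algebra R A] [Algebra R B] (ε : B →+* R) (E : C ≃+* A ⊗[R] B) (ε' : C →+* A)

variable (hε : ∀ r, ε (algebraMap R B r) = r)
  (hl : ∀ a, ε' (E.symm (a ⊗ₜ 1)) = a) (hr : ∀ b, ε' (E.symm (1 ⊗ₜ b)) = algebraMap R A (ε b))

include hl hr in
theorem sect_symm_tmul (a : A) (b : B) :
    ε' (E.symm (a ⊗ₜ b)) = a * algebraMap R A (ε b) := by
  rw [show a ⊗ₜ[R] b = (a ⊗ₜ 1) * (1 ⊗ₜ b) by simp, map_mul, map_mul, hl, hr]

/-- the functions on the base change that come from the ideal of the section -/
abbrev sectIdeal : Ideal C := Ideal.span ((fun b => E.symm (1 ⊗ₜ b)) '' {b | ε b = 0})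

include hε hl hr in
theorem ker_sect_le : RingHom.ker ε' ≤ sectIdeal ε E := by
  have key : ∀ t, E.symm t - E.symm (ε' (E.symm t) ⊗ₜ 1) ∈ sectIdeal ε E := by
    intro t
    induction t using TensorProduct.induction_on with
    | zero => simp
    | add x y hx hy =>
      have e : E.symm (x + y) - E.symm (ε' (E.symm (x + y)) ⊗ₜ 1) =
          (E.symm x - E.symm (ε' (E.symm x) ⊗ₜ 1)) + (E.symm y - E.symm (ε' (E.symm y) ⊗ₜ 1)) := by
        simp only [map_add, add_tmul]; ring
      rw [e]; exact add_mem hx hy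
    | tmul a b =>
      have e : E.symm (a ⊗ₜ b) - E.symm (ε' (E.symm (a ⊗ₜ b)) ⊗ₜ 1) =
          E.symm (a ⊗ₜ 1) * E.symm (1 ⊗ₜ (b - algebraMap R B (ε b))) := by
        rw [sect_symm_tmul ε E ε' hl hr, ← map_sub, ← map_mul]
        congr 1
        rw [Algebra.TensorProduct.tmul_mul_tmul, mul_one, one_mul, tmul_sub,
          Algebra.algebraMap_eq_smul_one (ε b), Algebra.algebraMap_eq_smul_one (ε b), tmul_smul,
          smul_tmul', Algebra.mul_smul_comm, mul_one]
      rw [e]
      refine Ideal.mul_mem_left _ _ (Ideal.subset_span ⟨_, ?_, rfl⟩)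
      show ε _ = 0
      rw [map_sub, hε, sub_self]
  intro c hc
  have := key (E c)
  rw [E.symm_apply_apply, RingHom.mem_ker.1 hc, zero_tmul, map_zero, sub_zero] at this
  exact this

variable {P P' N : Type*} [AddCommGroup P] [AddCommGroup P'] [AddCommGroup N] [Module A N]
  [Module B P] [Module C P'] (ι : P →+ B) (ι' : P' →+ C)
  (hι : Function.Injective ι) (hι' : Function.Injective ι')
  (hsmul : ∀ (b : B) p, ι (b • p) = b * ι p) (hsmul' : ∀ (c : C) p, ι' (c • p) = c * ι' p)
  (hιε : ∀ b, ε b = 0 → ∃ p, ι p = b) (hιε' : ∀ p, ε' (ι' p) = 0)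
  (τ : P → P') (hτ : ∀ p, ι' (τ p) = E.symm (1 ⊗ₜ ι p))

include hε hl hr hιε hιε' hι' hsmul' hτ in
theorem ext_of_comp_eq (g g' : P' →+ N) (hg : ∀ (c : C) p, g (c • p) = ε' c • g p)
    (hg' : ∀ (c : C) p, g' (c • p) = ε' c • g' p) (h : ∀ p, g (τ p) = g' (τ p)) : g = g' := by
  ext p
  have key : ∀ c ∈ sectIdeal ε E, ∃ q, ι' q = c ∧ g q = g' q := by
    intro c hc
    induction hc using Submodule.span_induction with
    | mem x hx =>
      obtain ⟨b, hb, rfl⟩ := hx
      obtain ⟨q, rfl⟩ := hιε b hb
      exact ⟨τ q, hτ q, h q⟩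
    | zero => exact ⟨0, map_zero _, by rw [map_zero, map_zero]⟩
    | add x y _ _ hx hy =>
      obtain ⟨q, rfl, hq⟩ := hx
      obtain ⟨q', rfl, hq'⟩ := hy
      exact ⟨q + q', map_add _ _ _, by rw [map_add, map_add, hq, hq']⟩
    | smul a x _ hx =>
      obtain ⟨q, rfl, hq⟩ := hx
      exact ⟨a • q, hsmul' _ _, by rw [hg, hg', hq]⟩
  obtain ⟨q, hq, hgq⟩ := key (ι' p) (ker_sect_le ε E ε' hε hl hr (RingHom.mem_ker.2 (hιε' p)))
  rwa [hι' hq] at hgq

include hε hl hr hι hsmul hsmul' hιε hιε' hτ in
theorem exists_ext (g : P →+ N) (hg : ∀ (b : B) p, g (b • p) = algebraMap R A (ε b) • g p)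
    (hει : ∀ p, ε (ι p) = 0) :
    ∃ g' : P' →+ N, (∀ (c : C) p, g' (c • p) = ε' c • g' p) ∧ ∀ p, g' (τ p) = g p := by
  choose k hk using fun b => hιε (b - algebraMap R B (ε b)) (by rw [map_sub, hε, sub_self])
  have hkadd : ∀ b b', k (b + b') = k b + k b' := fun b b' => hι (by
    rw [map_add, hk, hk, hk, map_add, map_add]; ring)
  have hksmul : ∀ (r : R) b, k (r • b) = algebraMap R B r • k b := fun r b => hι (by
    rw [hsmul, hk, hk, Algebra.smul_def, map_mul, hε, map_mul]; ring)
  have hkmul : ∀ b b', k (b * b') = b • k b' + algebraMap R B (ε b') • k b := fun b b' => hι (by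
    rw [map_add, hsmul, hsmul, hk, hk, hk, map_mul, map_mul]; ring)
  let D : B →+ N := AddMonoidHom.mk' (fun b => g (k b)) fun b b' => by rw [hkadd, map_add]
  let H : A ⊗[R] B →+ N := TensorProduct.liftAddHom
    { toFun := fun a => { toFun := fun b => a • D b
                          map_zero' := by rw [map_zero, smul_zero]
                          map_add' := fun b b' => by rw [map_add, smul_add] }
      map_zero' := by ext b; exact zero_smul _ _
      map_add' := fun a a' => by ext b; exact add_smul _ _ _ }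
    fun r a b => by
      show (r • a) • D b = a • g (k (r • b))
      rw [hksmul, hg, hε, Algebra.smul_def, mul_comm, mul_smul]
      rfl
  have hH : ∀ a b, H (a ⊗ₜ b) = a • g (k b) := fun a b => rfl
  have hmul : ∀ s t, H (s * t) = ε' (E.symm s) • H t + ε' (E.symm t) • H s := by
    intro s t
    induction s using TensorProduct.induction_on with
    | zero => simp
    | add x y hx hy =>
      rw [add_mul, map_add, hx, hy, map_add E.symm, map_add ε', map_add H, add_smul, smul_add]
      abel
    | tmul a b =>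
      induction t using TensorProduct.induction_on with
      | zero => simp
      | add x y hx hy =>
        rw [mul_add, map_add, hx, hy, map_add E.symm, map_add ε', map_add H, add_smul, smul_add]
        abel
      | tmul a' b' =>
        rw [Algebra.TensorProduct.tmul_mul_tmul, hH, hH, hH, hkmul, map_add, hg, hg, hε,
          sect_symm_tmul ε E ε' hl hr, sect_symm_tmul ε E ε' hl hr, smul_add]
        simp only [smul_smul]
        congr 2 <;> ring
  refine ⟨(H.comp E.toAddMonoidHom).comp ι', fun c p => ?_, fun p => ?_⟩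
  · show H (E (ι' (c • p))) = ε' c • H (E (ι' p))
    rw [hsmul', map_mul, hmul, E.symm_apply_apply, E.symm_apply_apply, hιε', zero_smul, add_zero]
  · show H (E (ι' (τ p))) = g p
    rw [hτ, E.apply_symm_apply, hH, one_smul]
    congr 1
    apply hι
    rw [hk, hει, map_zero, sub_zero]

end Groth.Agent.Omega57
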