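import Groth.Agent.Omega57.Corep
import Groth.Agent.Omega57.SplitExt
import Groth.Agent.QC70.Stalk
import Mathlib.AlgebraicGeometry.Morphisms.Affine
import Mathlib.Algebra.Category.Ring.Constructions

/-!
The conormal sheaf of a section commutes with every base change.
-/

set_option autoImplicit false
set_option backward.isDefEq.respectTransparency.types false

noncomputable section

universe u

open CategoryTheory Limits AlgebraicGeometry TopologicalSpace Opposite TensorProduct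
open Groth.Agent.QC70

namespace Groth.Agent.Omega57

theorem appLE_eq_zero_iff {X Y : Scheme.{u}} (h : X ⟶ Y) [QuasiCompact h] {W : Y.Opens}
    {U : X.Opens} (e : U ≤ h ⁻¹ᵁ W) (e' : h ⁻¹ᵁ W ≤ U) (x : Γ(Y, W)) :
    h.ker.subschemeι.app W x = 0 ↔ h.appLE W U e x = 0 := by
  have hb : Function.Bijective (X.presheaf.map (homOfLE e).op) :=
    Function.bijective_iff_has_inverse.2 ⟨X.presheaf.map (homOfLE e').op,
      fun y => (resO_resO e e' y).trans (resO_self y),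
      fun y => (resO_resO e' e y).trans (resO_self y)⟩
  rw [Scheme.Hom.appLE, ConcreteCategory.comp_apply, map_eq_zero_iff _ hb.1]
  exact ⟨app_eq_zero_of_subscheme h W x, subscheme_app_eq_zero h W x⟩

theorem isIso_of_restrict {X : Scheme.{u}} {M N : X.Modules} (φ : M ⟶ N)
    (H : ∀ x : X, ∃ (U : Scheme.{u}) (j : U ⟶ X) (_ : IsOpenImmersion j),
      x ∈ Set.range j ∧ IsIso ((Scheme.Modules.restrictFunctor j).map φ)) : IsIso φ := by
  refine isIso_of_bijective_stalkMapM φ fun x => ?_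
  obtain ⟨U, j, hj, ⟨y, rfl⟩, hiso⟩ := H x
  have h1 : IsIso ((Scheme.Modules.restrictFunctor j ⋙ Scheme.Modules.toPresheaf _ ⋙
      TopCat.Presheaf.stalkFunctor _ y).map φ) := by rw [Functor.comp_map]; infer_instance
  rw [NatIso.isIso_map_iff (Scheme.Modules.restrictStalkNatIso j y)] at h1
  exact ConcreteCategory.bijective_of_isIso ((Scheme.Modules.toPresheaf _ ⋙
      TopCat.Presheaf.stalkFunctor _ (j y)).map φ)

section

variable {Z X Z' X' : Scheme.{u}} (i : Z ⟶ X) (g : X' ⟶ X) (i' : Z' ⟶ X') (f : Z' ⟶ Z)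
  [QuasiCompact i'] (hg : i' ≫ g = f ≫ i)

include hg in
theorem app_comp_eq_zero (V : X.Opens) (m : Γ(ClSub.idealMod i.ker, V)) :
    i'.ker.subschemeι.app (g ⁻¹ᵁ V) (g.app V (OmegaSh.idealSect i.ker V m)) = 0 := by
  refine subscheme_app_eq_zero i' _ _ ?_
  rw [← ConcreteCategory.comp_apply, ← Scheme.Hom.comp_app, Scheme.Hom.app_eq_appLE,
    OmegaSh.appLE_congr_hom hg _ (by rw [hg]), Scheme.Hom.comp_appLE]
  erw [ConcreteCategory.comp_apply]
  rw [app_eq_zero_of_subscheme i V _ (subschemeι_idealSect _ _ m), map_zero]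

theorem exists_idealHom (hg : i' ≫ g = f ≫ i) :
    ∃ α : ClSub.idealMod i.ker ⟶ (Scheme.Modules.pushforward g).obj (ClSub.idealMod i'.ker),
      ∀ V m, OmegaSh.idealSect i'.ker (g ⁻¹ᵁ V) (α.app V m) = g.app V (OmegaSh.idealSect i.ker V m) := by
  let adj := Scheme.Modules.pullbackPushforwardAdjunction g
  let c : ClSub.idealMod i.ker ⟶ (Scheme.Modules.pushforward g).obj (Coh.structureModule X') :=
    ClSub.idealModι i.ker ≫ ClSub.unitToPush g
  have hc : c ≫ (Scheme.Modules.pushforward g).map (ClSub.toSubscheme i'.ker) = 0 := by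
    refine Scheme.Modules.hom_ext _ _ fun V => ?_
    ext m
    exact app_comp_eq_zero i g i' f hg V m
  let l : (Scheme.Modules.pullback g).obj (ClSub.idealMod i.ker) ⟶ ClSub.idealMod i'.ker :=
    kernel.lift _ ((adj.homEquiv _ _).symm c) (by
      rw [← adj.homEquiv_naturality_right_symm, hc]
      rw [Adjunction.homEquiv_counit, Functor.map_zero, zero_comp])
  refine ⟨adj.homEquiv _ _ l, fun V m => ?_⟩
  have h1 : adj.homEquiv _ _ l ≫ (Scheme.Modules.pushforward g).map (ClSub.idealModι i'.ker) = c := by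
    rw [← adj.homEquiv_naturality_right]
    exact (congrArg _ (kernel.lift_ι _ _ _)).trans (Equiv.apply_symm_apply _ _)
  exact congr(Scheme.Modules.Hom.app $h1 V m)

variable (r : X ⟶ Z) (r' : X' ⟶ Z') (hir : i ≫ r = 𝟙 Z) (hir' : i' ≫ r' = 𝟙 Z')
  (H : IsPullback g r' r f)

include hir hir' H in
theorem exists_pullback_conormal_iso [QuasiCompact i] (hg : i' ≫ g = f ≫ i) :
    Nonempty ((Scheme.Modules.pullback f).obj (Omega.conormal i) ≅ Omega.conormal i') := by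
  obtain ⟨α, hα⟩ := exists_idealHom i g i' f hg
  let M := ClSub.idealMod i.ker
  let M' := ClSub.idealMod i'.ker
  have : M.IsQuasicoherent := isQuasicoherent_idealMod _
  have : M'.IsQuasicoherent := isQuasicoherent_idealMod _
  let adj := Scheme.Modules.pullbackPushforwardAdjunction (i' ≫ g)
  let adj' := Scheme.Modules.pullbackPushforwardAdjunction i'
  let c : M ⟶ (Scheme.Modules.pushforward (i' ≫ g)).obj ((Scheme.Modules.pullback i').obj M') :=
    α ≫ (Scheme.Modules.pushforward g).map (adj'.unit.app M') ≫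
      (Scheme.Modules.pushforwardComp i' g).hom.app _
  let φ : (Scheme.Modules.pullback (i' ≫ g)).obj M ⟶ (Scheme.Modules.pullback i').obj M' :=
    (adj.homEquiv _ _).symm c
  have hφ : ∀ V m, φ.app ((i' ≫ g) ⁻¹ᵁ V) (OmegaSh.pullSect (i' ≫ g) M V m) =
      OmegaSh.pullSect i' M' (g ⁻¹ᵁ V) (α.app V m) := fun V m => by
    have h1 : adj.unit.app M ≫ (Scheme.Modules.pushforward (i' ≫ g)).map φ = c :=
      (adj.homEquiv_unit _ _ φ).symm.trans (Equiv.apply_symm_apply _ _)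
    exact congr(Scheme.Modules.Hom.app $h1 V m)
  have hiso : IsIso φ := by
    refine isIso_of_restrict φ fun z' => ?_
    -- the charts
    obtain ⟨T, hT, hzT, -⟩ := exists_isAffineOpen_mem_and_subset (X := Z) (x := f z') (U := ⊤) trivial
    have hxT : i (f z') ∈ r ⁻¹ᵁ T := by
      show r (i (f z')) ∈ T
      rwa [← Scheme.Hom.comp_apply, hir]
    obtain ⟨V, hV, hxV, hVT⟩ := exists_isAffineOpen_mem_and_subset hxT
    obtain ⟨a, haV, hza⟩ := hT.exists_basicOpen_le (V := i ⁻¹ᵁ V) ⟨f z', hxV⟩ hzT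
    let T₀ := Z.basicOpen a
    have hT₀ : IsAffineOpen T₀ := hT.basicOpen a
    obtain ⟨V₀, hV₀, hTV, hVT₀⟩ : ∃ V₀ : X.Opens, IsAffineOpen V₀ ∧ T₀ ≤ i ⁻¹ᵁ V₀ ∧ V₀ ≤ r ⁻¹ᵁ T₀ := by
      refine ⟨X.basicOpen (r.appLE T V hVT a), hV.basicOpen _, fun z hz => ?_, ?_⟩
      · rw [Scheme.Hom.mem_preimage, Scheme.basicOpen_appLE]
        refine ⟨haV hz, ?_⟩
        show r (i z) ∈ T₀
        rwa [← Scheme.Hom.comp_apply, hir]
      · rw [Scheme.basicOpen_appLE]; exact inf_le_right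
    obtain ⟨U, hU, hzU, hUT⟩ :=
      exists_isAffineOpen_mem_and_subset (show z' ∈ f ⁻¹ᵁ T₀ from hza)
    let W := g ⁻¹ᵁ V₀ ⊓ r' ⁻¹ᵁ U
    have hpb := Scheme.Hom.isPullback_resLE H (US := T₀) (UT := U) (UX := V₀) hUT hVT₀ (UY := W) rfl
    have : IsAffine (U : Scheme.{u}) := hU
    have : IsAffine (T₀ : Scheme.{u}) := hT₀
    have : IsAffine (V₀ : Scheme.{u}) := hV₀
    have hW : IsAffineOpen W := IsAffine.of_isPullback hpb
    have hUW : U ≤ i' ⁻¹ᵁ W := fun x hx => by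
      refine ⟨?_, ?_⟩
      · show g (i' x) ∈ V₀
        rw [← Scheme.Hom.comp_apply, hg]
        exact hTV (hUT hx)
      · show r' (i' x) ∈ U
        rwa [← Scheme.Hom.comp_apply, hir']
    have hWU : i' ⁻¹ᵁ W ≤ U := fun x hx => by
      have h2 : r' (i' x) ∈ U := hx.2
      rwa [← Scheme.Hom.comp_apply, hir'] at h2
    have hVT' : i ⁻¹ᵁ V₀ ≤ T₀ := fun x hx => by
      have h2 : r (i x) ∈ T₀ := hVT₀ hx
      rwa [← Scheme.Hom.comp_apply, hir] at h2
    have hUV : U ≤ (i' ≫ g) ⁻¹ᵁ V₀ := fun x hx => (hUW hx).1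
    -- the rings
    letI := (f.appLE T₀ U hUT).hom.toAlgebra
    letI := (r.appLE T₀ V₀ hVT₀).hom.toAlgebra
    have hpo : IsPushout (f.appLE T₀ U hUT) (r.appLE T₀ V₀ hVT₀) (r'.appLE U W inf_le_right)
        (g.appLE V₀ W inf_le_left) := by
      refine ((isPushout_appTop_of_isPullback hpb).of_iso T₀.topIso V₀.topIso U.topIso W.topIso
        ?_ ?_ ?_ ?_).flip <;>
      · simp only [Scheme.Hom.appTop, Scheme.Hom.resLE_app_top, Category.assoc, Iso.inv_hom_id,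
          Category.comp_id]
    have hpo' := CommRingCat.isPushout_tensorProduct Γ(Z, T₀) Γ(Z', U) Γ(X, V₀)
    let E := (hpo.isoIsPushout _ _ hpo').commRingCatIsoToRingEquiv
    let ε := (i.appLE V₀ T₀ hTV).hom
    let ε' := (i'.appLE W U hUW).hom
    have hEl : ∀ a, E.symm (a ⊗ₜ 1) = r'.appLE U W inf_le_right a := fun a =>
      E.symm_apply_eq.2 (congr($(hpo.inl_isoIsPushout_hom _ _ hpo') a)).symm
    have hEr : ∀ b, E.symm (1 ⊗ₜ b) = g.appLE V₀ W inf_le_left b := fun b =>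
      E.symm_apply_eq.2 (congr($(hpo.inr_isoIsPushout_hom _ _ hpo') b)).symm
    have hε : ∀ b, ε (algebraMap Γ(Z, T₀) Γ(X, V₀) b) = b := fun b => by
      show (r.appLE T₀ V₀ hVT₀ ≫ i.appLE V₀ T₀ hTV) b = b
      rw [Scheme.Hom.appLE_comp_appLE, OmegaSh.id_appLE_eq_id hir]
      rfl
    have hl : ∀ a, ε' (E.symm (a ⊗ₜ 1)) = a := fun a => by
      rw [hEl]
      show (r'.appLE U W inf_le_right ≫ i'.appLE W U hUW) a = a
      rw [Scheme.Hom.appLE_comp_appLE, OmegaSh.id_appLE_eq_id hir']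
      rfl
    have hgf : ∀ b, (i' ≫ g).appLE V₀ U hUV b = algebraMap Γ(Z, T₀) Γ(Z', U) (ε b) := fun b => by
      rw [OmegaSh.appLE_congr_hom hg hUV (fun x hx => hTV (hUT hx))]
      exact (congr($(Scheme.Hom.appLE_comp_appLE f i V₀ T₀ U hTV hUT) b)).symm
    have hr : ∀ b, ε' (E.symm (1 ⊗ₜ b)) = algebraMap Γ(Z, T₀) Γ(Z', U) (ε b) := fun b => by
      rw [hEr, ← hgf]
      exact congr($(Scheme.Hom.appLE_comp_appLE i' g V₀ W U inf_le_left hUW) b)
    let ι := OmegaSh.idealSect i.ker V₀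
    let ι' := OmegaSh.idealSect i'.ker W
    have hι : ∀ b, ε b = 0 → ∃ p, ι p = b := fun b hb =>
      exists_idealSect_eq _ _ b ((appLE_eq_zero_iff i hTV hVT' b).2 hb)
    have hει : ∀ p, ε (ι p) = 0 := fun p =>
      (appLE_eq_zero_iff i hTV hVT' _).1 (subschemeι_idealSect _ _ p)
    have hι' : ∀ p, ε' (ι' p) = 0 := fun p =>
      (appLE_eq_zero_iff i' hUW hWU _).1 (subschemeι_idealSect _ _ p)
    let τ : Γ(M, V₀) → Γ(M', W) := fun m => res M' (inf_le_left : W ≤ g ⁻¹ᵁ V₀) (α.app V₀ m)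
    have hτ : ∀ p, ι' (τ p) = E.symm (1 ⊗ₜ ι p) := fun p => by
      rw [hEr]
      refine (OmegaSh.idealModι_app_map (g ⁻¹ᵁ V₀) i'.ker inf_le_left (α.app V₀ p)).trans ?_
      refine (congrArg _ (hα V₀ p)).trans ?_
      rfl
    -- the sheaves on the chart
    let j := hU.fromSpec
    have hj : (⊤ : (Spec Γ(Z', U)).Opens) ≤ j ⁻¹ᵁ ((i' ≫ g) ⁻¹ᵁ V₀) :=
      fun x _ => hUV (hU.range_fromSpec.le ⟨x, rfl⟩)
    have hj' : (⊤ : (Spec Γ(Z', U)).Opens) ≤ j ⁻¹ᵁ (i' ⁻¹ᵁ W) :=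
      fun x _ => hUW (hU.range_fromSpec.le ⟨x, rfl⟩)
    let φj := (Scheme.Modules.restrictFunctor j).map φ
    have hφj : ∀ m, φj.app ⊤ (pullOpen (i' ≫ g) M j hj m) = pullOpen i' M' j hj' (τ m) := by
      intro m
      let F := (Scheme.Modules.pullback (i' ≫ g)).obj M
      let F' := (Scheme.Modules.pullback i').obj M'
      have a1 : j ''ᵁ ⊤ ≤ j ''ᵁ (j ⁻¹ᵁ ((i' ≫ g) ⁻¹ᵁ V₀)) := j.image_mono hj
      have a2 : j ''ᵁ (j ⁻¹ᵁ ((i' ≫ g) ⁻¹ᵁ V₀)) ≤ (i' ≫ g) ⁻¹ᵁ V₀ := j.image_preimage_le _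
      have b1 : j ''ᵁ ⊤ ≤ j ''ᵁ (j ⁻¹ᵁ (i' ⁻¹ᵁ W)) := j.image_mono hj'
      have b2 : j ''ᵁ (j ⁻¹ᵁ (i' ⁻¹ᵁ W)) ≤ i' ⁻¹ᵁ W := j.image_preimage_le _
      have b3 : i' ⁻¹ᵁ W ≤ i' ⁻¹ᵁ (g ⁻¹ᵁ V₀) := i'.preimage_mono inf_le_left
      show φ.app (j ''ᵁ ⊤) (res F a1 (res F a2 (OmegaSh.pullSect (i' ≫ g) M V₀ m))) =
        res F' b1 (res F' b2 (OmegaSh.pullSect i' M' W (τ m)))
      refine (app_res φ a1 _).trans ((congrArg (res F' a1) (app_res φ a2 _)).trans ?_)
      rw [hφ]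
      refine Eq.trans ?_ (congrArg (fun z => res F' b1 (res F' b2 z))
        (OmegaSh.pullSect_map i' M' inf_le_left (α.app V₀ m))).symm
      exact (res_res a2 a1 _).trans (((res_res b2 b1 _).trans (res_res b3 (b1.trans b2) _)).symm)
    have hsmul : ∀ {N : (Spec Γ(Z', U)).Modules} (a : ((Scheme.Modules.pullback i').obj M').restrict j ⟶ N)
        (c : Γ(X', W)) p, a.app ⊤ (pullOpen i' M' j hj' (c • p)) =
          ε' c • a.app ⊤ (pullOpen i' M' j hj' p) := fun a c p => by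
      rw [pullOpen_smul, ringHomOpen_fromSpec hU i' hUW, Scheme.Modules.smul_Spec_def,
        Scheme.Modules.Hom.app_smul, ← Scheme.Modules.smul_Spec_def]
    have uniq : ∀ {N : (Spec Γ(Z', U)).Modules} (a a' : ((Scheme.Modules.pullback i').obj M').restrict j ⟶ N),
        (∀ m, a.app ⊤ (pullOpen i' M' j hj' (τ m)) = a'.app ⊤ (pullOpen i' M' j hj' (τ m))) → a = a' := by
      intro N a a' haa
      refine hom_open_ext i' M' j hj' hW a a' fun m => ?_
      exact DFunLike.congr_fun (ext_of_comp_eq (A := Γ(Z', U)) ε E ε' hε hl hr ι ι'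
        (idealSect_injective _ _) (fun c p => idealSect_smul _ _ c p) hι hι' τ hτ
        ((a.app ⊤).hom.comp (pullOpen i' M' j hj')) ((a'.app ⊤).hom.comp (pullOpen i' M' j hj'))
        (hsmul a) (hsmul a') haa) m
    obtain ⟨g', hg', hg'τ⟩ := exists_ext (A := Γ(Z', U)) ε E ε' hε hl hr ι ι'
      (idealSect_injective _ _) (fun c p => idealSect_smul _ _ c p)
      (fun c p => idealSect_smul _ _ c p) hι hι' τ hτ (pullOpen (i' ≫ g) M j hj)
      (fun b p => by rw [pullOpen_smul, ringHomOpen_fromSpec hU (i' ≫ g) hUV, hgf]) hει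
    obtain ⟨b, hb⟩ := exists_hom_open i' M' j hj' hW g'
      (fun c p => by rw [hg', ringHomOpen_fromSpec hU i' hUW])
    refine ⟨_, j, inferInstance, ?_, ⟨b, ?_, ?_⟩⟩
    · rw [hU.range_fromSpec]; exact hzU
    · refine hom_open_ext (i' ≫ g) M j hj hV₀ _ _ fun m => ?_
      show b.app ⊤ (φj.app ⊤ (pullOpen (i' ≫ g) M j hj m)) = pullOpen (i' ≫ g) M j hj m
      rw [hφj, hb, hg'τ]
    · refine uniq _ _ fun m => ?_
      show φj.app ⊤ (b.app ⊤ (pullOpen i' M' j hj' (τ m))) = pullOpen i' M' j hj' (τ m)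
      rw [hb, hg'τ, hφj]
  exact ⟨(Scheme.Modules.pullbackComp f i).app M ≪≫ eqToIso (by rw [hg]) ≪≫ (@asIso _ _ _ _ φ hiso)⟩

end

end Groth.Agent.Omega57
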