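import Groth.Agent.Omega57.PullOpen
import Groth.Agent.Omega57.Diag

/-!
`pullOpen` corepresents semilinear maps; vanishing in the kernel subscheme.
-/

set_option autoImplicit false
set_option backward.isDefEq.respectTransparency.types false

noncomputable section

universe u

open CategoryTheory Limits AlgebraicGeometry TopologicalSpace Opposite
open Groth.Agent.QC70

namespace Groth.Agent.Omega57

section corep

variable {X P : Scheme.{u}} {A : CommRingCat.{u}} (h : X ⟶ P) (M : P.Modules) [M.IsQuasicoherent]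
  (j : Spec A ⟶ X) [IsOpenImmersion j] {W : P.Opens}
  (hjW : (⊤ : (Spec A).Opens) ≤ j ⁻¹ᵁ (h ⁻¹ᵁ W)) (hW : IsAffineOpen W) {N : (Spec A).Modules}

omit [M.IsQuasicoherent] in
theorem res_inf_bijective (O : P.Opens) (hjW : (⊤ : (Spec A).Opens) ≤ j ⁻¹ᵁ (h ⁻¹ᵁ W)) :
    Function.Bijective (res ((Scheme.Modules.pushforward h).obj ((Scheme.Modules.pushforward j).obj N))
      (inf_le_left : O ⊓ W ≤ O)) :=
  res_bijective N ((j ≫ h).preimage_mono inf_le_left) fun x hx => ⟨hx, hjW (Opens.mem_top x)⟩

include hW in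
theorem hom_open_ext (a a' : ((Scheme.Modules.pullback h).obj M).restrict j ⟶ N)
    (haa : ∀ m, a.app ⊤ (pullOpen h M j hjW m) = a'.app ⊤ (pullOpen h M j hjW m)) : a = a' := by
  apply ((Scheme.Modules.restrictAdjunction j).homEquiv _ _).injective
  apply ((Scheme.Modules.pullbackPushforwardAdjunction h).homEquiv _ _).injective
  refine Scheme.Modules.hom_ext _ _ fun O => ?_
  ext s
  refine (res_inf_bijective h j O hjW).1 ?_
  rw [← app_res, ← app_res]
  refine hom_ext_le hW _ _ (fun m => ?_) inf_le_right _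
  rw [Adjunction.homEquiv_unit, Adjunction.homEquiv_unit, Adjunction.homEquiv_unit,
    Adjunction.homEquiv_unit]
  refine (res_bijective N hjW le_top).1 ?_
  exact ((app_res a hjW _).symm.trans (haa m)).trans (app_res a' hjW _)

include hW in
theorem exists_hom_open (g : Γ(M, W) →+ Γ(N, (⊤ : (Spec A).Opens)))
    (hg : ∀ r m, g (r • m) = ringHomOpen h j hjW r • g m) :
    ∃ a : ((Scheme.Modules.pullback h).obj M).restrict j ⟶ N,
      ∀ m, a.app ⊤ (pullOpen h M j hjW m) = g m := by
  let adj := Scheme.Modules.pullbackPushforwardAdjunction h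
  let adjJ := Scheme.Modules.restrictAdjunction j
  let hM := (Scheme.Modules.pullback h).obj M
  let T := (Scheme.Modules.pushforward h).obj ((Scheme.Modules.pushforward j).obj N)
  have hbW : Function.Bijective (res N hjW) := res_bijective _ _ le_top
  have hρ : ∀ O, Function.Bijective (res T (inf_le_left : O ⊓ W ≤ O)) := fun O => res_inf_bijective h j O hjW
  let back : Γ(N, (⊤ : (Spec A).Opens)) → Γ(N, j ⁻¹ᵁ (h ⁻¹ᵁ W)) :=
    fun x => res N le_top x
  have hback : ∀ x, res N hjW (back x) = x := fun x => by rw [res_res, res_self]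
  let l : Γ(M, W) →ₗ[Γ(P, W)] Γ(T, W) :=
    { toFun := fun m => back (g m)
      map_add' := fun m m' => by
        refine hbW.1 ?_
        rw [hback, map_add g]
        exact ((res_add (M := N) hjW _ _).trans (congrArg₂ (· + ·) (hback _) (hback _))).symm
      map_smul' := fun r m => by
        refine hbW.1 ?_
        rw [hback]
        refine Eq.trans ?_ (res_smul_open h j hjW r _).symm
        rw [hback, hg] }
  let φ : HomOn M T W := HomOn.ofLinear hW l
  let ext : ∀ O : P.Opens, Γ(M, O) → Γ(T, O) := fun O s =>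
    (Equiv.ofBijective _ (hρ O)).symm (φ.app (O ⊓ W) inf_le_right (res M inf_le_left s))
  have hext : ∀ O s, res T (inf_le_left : O ⊓ W ≤ O) (ext O s) =
      φ.app (O ⊓ W) inf_le_right (res M inf_le_left s) := fun O s =>
    (Equiv.ofBijective _ (hρ O)).apply_symm_apply _
  let Φ : HomOn M T ⊤ :=
    { app := fun O _ =>
        { toFun := ext O
          map_add' := fun s t => by
            refine (hρ O).1 ?_
            show res T _ (ext O (s + t)) = res T _ (ext O s + ext O t)
            rw [res_add (M := T), hext, hext, hext, res_add, map_add]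
          map_smul' := fun r s => by
            refine (hρ O).1 ?_
            show res T _ (ext O (r • s)) = res T _ (r • ext O s)
            rw [res_smul (M := T), hext, hext, res_smul, LinearMap.map_smul] }
      app_res := fun {O O'} _ hle s => by
        refine (hρ O').1 ?_
        show res T _ (ext O' (res M hle s)) = res T _ (res T hle (ext O s))
        rw [hext, res_res, ← res_res (inf_le_left : O ⊓ W ≤ O) (inf_le_inf_right W hle) s, φ.app_res inf_le_right,
          ← hext, res_res, res_res] }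
  let β₀ : hM ⟶ (Scheme.Modules.pushforward j).obj N := (adj.homEquiv _ _).symm Φ.toHom
  let β : hM.restrict j ⟶ N := (adjJ.homEquiv _ _).symm β₀
  refine ⟨β, fun m => ?_⟩
  have h1 : adj.unit.app M ≫ (Scheme.Modules.pushforward h).map β₀ = Φ.toHom :=
    (adj.homEquiv_unit _ _ β₀).symm.trans (Equiv.apply_symm_apply _ _)
  have h2 : adjJ.unit.app hM ≫ (Scheme.Modules.pushforward j).map β = β₀ :=
    (adjJ.homEquiv_unit _ _ β).symm.trans (Equiv.apply_symm_apply _ _)
  have h3 := congr(Scheme.Modules.Hom.app $h1 W m)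
  rw [← h2] at h3
  show β.app ⊤ (res (hM.restrict j) hjW _) = _
  rw [app_res β]
  refine (congrArg (res N hjW) h3).trans ?_
  refine Eq.trans ?_ (hback (g m))
  refine congrArg (res N hjW) ?_
  rw [HomOn.toHom_app]
  refine (hρ W).1 ((hext W m).trans ?_)
  rw [φ.app_res le_rfl, HomOn.ofLinear_app_self]
  rfl

end corep

theorem fromSpec_appLE_top {X : Scheme.{u}} {U : X.Opens} (hU : IsAffineOpen U) :
    hU.fromSpec.appLE U ⊤ hU.fromSpec_preimage_self.ge = (Scheme.ΓSpecIso Γ(X, U)).inv := by
  rw [Scheme.Hom.appLE, hU.fromSpec_app_self, Category.assoc, ← Functor.map_comp]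
  refine (congrArg ((Scheme.ΓSpecIso Γ(X, U)).inv ≫ ·) ?_).trans (Category.comp_id _)
  exact (Spec Γ(X, U)).presheaf.map_id _

theorem ringHomOpen_fromSpec {X P : Scheme.{u}} {U : X.Opens} (hU : IsAffineOpen U) (h : X ⟶ P)
    {W : P.Opens} (e : U ≤ h ⁻¹ᵁ W)
    (hjW : (⊤ : (Spec Γ(X, U)).Opens) ≤ hU.fromSpec ⁻¹ᵁ (h ⁻¹ᵁ W)) (x : Γ(P, W)) :
    ringHomOpen h hU.fromSpec hjW x = h.appLE W U e x := by
  show (Scheme.ΓSpecIso Γ(X, U)).hom ((hU.fromSpec ≫ h).appLE W ⊤ hjW x) = _
  rw [← Scheme.Hom.appLE_comp_appLE hU.fromSpec h W U ⊤ e hU.fromSpec_preimage_self.ge,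
    fromSpec_appLE_top hU, ConcreteCategory.comp_apply, Iso.inv_hom_id_apply]

/-- A function vanishing after pullback along `i` vanishes on the kernel subscheme. -/
theorem subscheme_app_eq_zero {X Z : Scheme.{u}} (i : Z ⟶ X) [QuasiCompact i] (V : X.Opens)
    (x : Γ(X, V)) (hx : i.app V x = 0) : i.ker.subschemeι.app V x = 0 := by
  let ι := i.ker.subschemeι
  refine i.ker.subscheme.sheaf.eq_of_locally_eq'
    (fun V' : {V' : X.affineOpens // (V' : X.Opens) ≤ V} => ι ⁻¹ᵁ (V'.1 : X.Opens))
    (ι ⁻¹ᵁ V) (fun V' => (Opens.map ι.base).map (homOfLE V'.2)) ?_ _ _ ?_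
  · intro z hz
    obtain ⟨_, ⟨V', hV', rfl⟩, hzV, hVW⟩ :=
      X.isBasis_affineOpens.exists_subset_of_mem_open hz V.isOpen
    exact Opens.mem_iSup.mpr ⟨⟨⟨V', hV'⟩, hVW⟩, hzV⟩
  · intro V'
    change i.ker.subscheme.presheaf.map ((Opens.map ι.base).map (homOfLE V'.2)).op (ι.app V x) =
      i.ker.subscheme.presheaf.map ((Opens.map ι.base).map (homOfLE V'.2)).op 0
    rw [map_zero, ← ConcreteCategory.comp_apply]
    erw [← Scheme.Hom.naturality ι (homOfLE V'.2).op]
    rw [ConcreteCategory.comp_apply]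
    have hmem : X.presheaf.map (homOfLE V'.2).op x ∈ i.ker.ideal V'.1 := by
      rw [Scheme.Hom.ker_apply, RingHom.mem_ker]
      refine (congr($(i.naturality (homOfLE V'.2).op) x)).trans ?_
      rw [ConcreteCategory.comp_apply, hx, map_zero]
    rw [← Scheme.IdealSheafData.ker_subschemeι_app, RingHom.mem_ker] at hmem
    exact hmem

theorem app_eq_zero_of_subscheme {X Z : Scheme.{u}} (i : Z ⟶ X) (V : X.Opens)
    (x : Γ(X, V)) (hx : i.ker.subschemeι.app V x = 0) : i.app V x = 0 := by
  have e : i.toImage ≫ i.ker.subschemeι = i := i.toImage_imageι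
  rw [Scheme.Hom.app_eq_appLE, OmegaSh.appLE_congr_hom e.symm _ (by rw [e]),
    Scheme.Hom.comp_appLE, ConcreteCategory.comp_apply, hx, map_zero]

end Groth.Agent.Omega57
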